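import Mathlib
import Cfsg.Agent.H264.GN.Cls
import Cfsg.Agent.H364.OutLie
import Cfsg.Agent.H278.ElDefs
import Cfsg.Prelude.Def_GeometricClasses
import Cfsg.Agent.FastGrp
import Cfsg.Agent.Prune
set_option linter.all false

section
prune_inst 0x7ffcfefdafbd37ffffff7e7ffffddffe39d4dfffffdffb4bfffffbffbfff23ef3bedfbaf1de4d8ff8ed7e0b630b87853fb7eeeffef6bdc7ffffd5ff45ffbee1ff7ffbf8111d69c340f7c6ffffbf17fce7f3fffffffffffffffffffffffffffffffffffffffff

-- part: H264/FKS/Names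
section
prune_inst 0x301025042c0000000000000002000020300000000000000000400400090104000040080002200500006410801840004811100000421000000a0030000006000000008200941c0f00280000002003180c00000000000000000000000000000000000000000
set_option linter.all false
open scoped Cfsg.Agent.FastGrp

-- part: H264/FKS/Data
section
/-!
# Orders of groups of Lie type in characteristic `p`: exponent data (helper264)

`KD p f c X Y M a`: the number `c` (the order of a simple group of Lie type over `p^f`) has `p`-part at least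
`p^(f a)`, every prime divisor of order `d` modulo which `p` has order `d` comes from an exponent `x` with `X x`
(`d ∣ f x`, `x ≤ M`), and all primitive primes of the exponents `f e`, `Y e`, divide `c`.
`TD p f c X M a`: the same for the divisors `c` of the order of a group over `p^f`.
-/

set_option autoImplicit false

namespace Cfsg.Agent.H264.FKS

open Cfsg.Agent.OrdDiv Cfsg.Agent.H436 Cfsg.Agent.H915.GN Cfsg.Agent.H264.GN

/-- upper data for a divisor of the order of a group of Lie type over `p ^ f` -/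
structure TD (p f c : ℕ) (X : ℕ → Prop) (M a : ℕ) : Prop where
  exp : ∀ {d t : ℕ}, Prim p d t → t ∣ c → ∃ i, X i ∧ d ∣ f * i
  le : ∀ {i : ℕ}, X i → 1 ≤ i ∧ i ≤ M
  pp : ∀ {k : ℕ}, p ^ k ∣ c → k ≤ f * a

/-- data of the order of a simple group of Lie type over `p ^ f` -/
structure KD (p f c : ℕ) (X Y : ℕ → Prop) (M a : ℕ) : Prop where
  exp : ∀ {d t : ℕ}, Prim p d t → t ∣ c → ∃ i, X i ∧ d ∣ f * i
  le : ∀ {i : ℕ}, X i → 1 ≤ i ∧ i ≤ M
  pp : p ^ (f * a) ∣ c
  has : ∀ {e t : ℕ}, Y e → 3 ≤ f * e → Prim p (f * e) t → t ∣ c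

variable {p f c f₁ : ℕ}

/-! ### general lemmas -/

/-- `t` divides `(p^f)^a * N` with `N` a product of factors dividing `(p^f)^x - 1` -/
theorem exp_of_prod {a k d t : ℕ} (ht : Prim p d t) {F : ℕ → ℕ} (h : t ∣ (p ^ f) ^ a * ∏ i ∈ Finset.range k, F i)
    (P : ℕ → Prop) (hF : ∀ i < k, ∃ x, P x ∧ F i ∣ (p ^ f) ^ x - 1) : ∃ x, P x ∧ d ∣ f * x := by
  rcases ht.prime.dvd_mul.1 h with h2 | h2
  · rw [← pow_mul] at h2
    exact absurd h2 (ht.not_dvd_pow _)
  · rw [Prime.dvd_finsetProd_iff ht.prime.prime] at h2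
    obtain ⟨i, hi, hd⟩ := h2
    rw [Finset.mem_range] at hi
    obtain ⟨x, hx, hx2⟩ := hF i hi
    refine ⟨x, hx, ?_⟩
    have := hd.trans hx2
    rwa [← pow_mul, ht.dvd_iff] at this

theorem exp_of_list {a d t : ℕ} (ht : Prim p d t) {L : List ℕ}
    (h : t ∣ (p ^ f) ^ a * (L.map fun x => (p ^ f) ^ x - 1).prod) : ∃ x, x ∈ L ∧ d ∣ f * x := by
  rcases ht.prime.dvd_mul.1 h with h2 | h2
  · rw [← pow_mul] at h2
    exact absurd h2 (ht.not_dvd_pow _)
  · rw [Prime.dvd_prod_iff ht.prime.prime] at h2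
    obtain ⟨y, hy, hd⟩ := h2
    rw [List.mem_map] at hy
    obtain ⟨x, hx, rfl⟩ := hy
    rw [← pow_mul, ht.dvd_iff] at hd
    exact ⟨x, hx, hd⟩

/-- the `p`-part of a number `(p^f)^a N`, `p ∤ N` -/
theorem pp_of_cop (hp : p.Prime) {a k N : ℕ} (hN : ¬ p ∣ N) (h : p ^ k ∣ (p ^ f) ^ a * N) : k ≤ f * a := by
  rw [← pow_mul] at h
  have hco : Nat.Coprime (p ^ k) N := Nat.Coprime.pow_left k ((Nat.Prime.coprime_iff_not_dvd hp).2 hN)
  exact (Nat.pow_dvd_pow_iff_le_right hp.one_lt).1 (hco.dvd_of_dvd_mul_right h)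

/-- lower bound for the `p`-part from the order equation -/
theorem pp_of_eq {a D X : ℕ} (hc : D * c = (p ^ f) ^ a * X) (hD : Nat.Coprime p D) :
    p ^ (f * a) ∣ c := by
  refine (Nat.Coprime.pow_left _ hD).dvd_of_dvd_mul_left ?_
  rw [hc, ← pow_mul]
  exact Dvd.intro _ rfl

theorem not_dvd_sub (hp : p.Prime) {m : ℕ} (hm : 1 ≤ m) : ¬ p ∣ p ^ m - 1 := fun h =>
  (Nat.Prime.coprime_iff_not_dvd hp).1 (cop_sub hp hm) h

theorem not_dvd_add (hp : p.Prime) {m : ℕ} (hm : 1 ≤ m) : ¬ p ∣ p ^ m + 1 := fun h =>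
  (Nat.Prime.coprime_iff_not_dvd hp).1 (cop_add hp hm) h

theorem not_dvd_prod (hp : p.Prime) {k : ℕ} {F : ℕ → ℕ} (h : ∀ i < k, ¬ p ∣ F i) :
    ¬ p ∣ ∏ i ∈ Finset.range k, F i := fun h1 => by
  rw [Prime.dvd_finsetProd_iff hp.prime] at h1
  obtain ⟨i, hi, hd⟩ := h1
  exact h i (Finset.mem_range.1 hi) hd

/-! ### upper data -/

theorem td_psl (hp : p.Prime) (hf : 1 ≤ f) {n : ℕ} (h : c ∣ glN n (p ^ f)) :
    TD p f c (fun i => 1 ≤ i ∧ i ≤ n) n (n * (n - 1) / 2) :=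
  ⟨fun ht htc => by
    obtain ⟨i, h1, h2, h3⟩ := exists_exp ht (htc.trans h)
    exact ⟨i, ⟨h1, h2⟩, h3⟩, fun hi => hi, fun hk => pow_le hp hf (hk.trans h)⟩

theorem prB_not_dvd (hp : p.Prime) (hf : 1 ≤ f) (n : ℕ) : ¬ p ∣ prB (p ^ f) n := by
  rw [prB_eq]
  refine not_dvd_prod hp fun i _ => ?_
  rw [← pow_mul]
  exact not_dvd_sub hp (Nat.mul_pos hf (by omega))

theorem td_psp (hp : p.Prime) (hf : 1 ≤ f) {n : ℕ} (h : c ∣ (p ^ f) ^ (n ^ 2) * prB (p ^ f) n) :
    TD p f c (fun i => 1 ≤ i ∧ i ≤ 2 * n ∧ 2 ∣ i) (2 * n) (n ^ 2) :=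
  ⟨fun ht htc => by
    have h1 := htc.trans h
    rw [prB_eq] at h1
    exact exp_of_prod ht h1 _ fun i hi => ⟨2 * (i + 1), ⟨by omega, by omega, Dvd.intro _ rfl⟩, dvd_rfl⟩,
   fun hi => ⟨hi.1, hi.2.1⟩, fun hk => pp_of_cop hp (prB_not_dvd hp hf n) (hk.trans h)⟩

theorem td_ominus (hp : p.Prime) (hf : 1 ≤ f) {n : ℕ} (hn : 1 ≤ n)
    (h : c ∣ (p ^ f) ^ (n * (n - 1)) * (((p ^ f) ^ n + 1) * prB (p ^ f) (n - 1))) :
    TD p f c (fun i => 1 ≤ i ∧ i ≤ 2 * n ∧ 2 ∣ i) (2 * n) (n * (n - 1)) :=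
  ⟨fun ht htc => by
    have h1 := htc.trans h
    rw [prB_eq, mul_left_comm] at h1
    rcases ht.prime.dvd_mul.1 h1 with h2 | h2
    · have h3 := h2.trans (add_dvd _ _)
      rw [← pow_mul, ht.dvd_iff] at h3
      exact ⟨2 * n, ⟨by omega, by omega, Dvd.intro _ rfl⟩, h3⟩
    · exact exp_of_prod ht h2 _ (fun i hi => ⟨2 * (i + 1), ⟨by omega, by omega, Dvd.intro _ rfl⟩, dvd_rfl⟩),
   fun hi => ⟨hi.1, hi.2.1⟩, fun hk => pp_of_cop hp (fun h1 => by
    rcases hp.dvd_mul.1 h1 with h2 | h2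
    · rw [← pow_mul] at h2
      exact not_dvd_add hp (Nat.mul_pos hf hn) h2
    · exact prB_not_dvd hp hf _ h2) (hk.trans h)⟩

theorem td_oplus (hp : p.Prime) (hf : 1 ≤ f) {n : ℕ} (hn : 2 ≤ n)
    (h : c ∣ (p ^ f) ^ (n * (n - 1)) * (((p ^ f) ^ n - 1) * prB (p ^ f) (n - 1))) :
    TD p f c (fun i => 1 ≤ i ∧ i ≤ 2 * (n - 1) ∧ (2 ∣ i ∨ i = n)) (2 * (n - 1)) (n * (n - 1)) :=
  ⟨fun ht htc => by
    have h1 := htc.trans h
    rw [prB_eq, mul_left_comm] at h1
    rcases ht.prime.dvd_mul.1 h1 with h2 | h2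
    · rw [← pow_mul, ht.dvd_iff] at h2
      exact ⟨n, ⟨by omega, by omega, Or.inr rfl⟩, h2⟩
    · exact exp_of_prod ht h2 _ (fun i hi => ⟨2 * (i + 1), ⟨by omega, by omega, Or.inl (Dvd.intro _ rfl)⟩, dvd_rfl⟩),
   fun hi => ⟨hi.1, hi.2.1⟩, fun hk => pp_of_cop hp (fun h1 => by
    rcases hp.dvd_mul.1 h1 with h2 | h2
    · rw [← pow_mul] at h2
      exact not_dvd_sub hp (Nat.mul_pos hf (by omega)) h2
    · exact prB_not_dvd hp hf _ h2) (hk.trans h)⟩

/-- the exponents of the unitary groups -/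
def XU (n i : ℕ) : Prop := (1 ≤ i ∧ i ≤ n ∧ 2 ∣ i) ∨ ∃ j, i = 2 * j ∧ j ≤ n ∧ j % 2 = 1

theorem XU_le {n i : ℕ} (h : XU n i) : 1 ≤ i ∧ i ≤ 2 * (if n % 2 = 0 then n - 1 else n) ∧ 2 ∣ i := by
  rcases h with ⟨h1, h2, h3⟩ | ⟨j, rfl, h1, h2⟩
  · refine ⟨h1, ?_, h3⟩
    split_ifs <;> omega
  · refine ⟨by omega, ?_, Dvd.intro _ rfl⟩
    split_ifs <;> omega

theorem exp_psu {d t a n : ℕ} (ht : Prim p d t) (h1 : t ∣ (p ^ f) ^ a * prU (p ^ f) n) :
    ∃ i, XU n i ∧ d ∣ f * i := by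
  unfold prU at h1
  rw [prod_list] at h1
  refine exp_of_prod ht h1 _ (fun i hi => ?_)
  rcases Nat.even_or_odd i with h2 | h2
  · have h3 : i % 2 = 0 := Nat.even_iff.1 h2
    refine ⟨2 * (i + 1), Or.inr ⟨i + 1, rfl, by omega, by omega⟩, ?_⟩
    rw [if_pos (by rw [h3]; rfl)]
    exact add_dvd _ _
  · have h3 : i % 2 = 1 := Nat.odd_iff.1 h2
    refine ⟨i + 1, Or.inl ⟨by omega, by omega, by omega⟩, ?_⟩
    rw [if_neg (by rw [h3]; decide)]

theorem prU_not_dvd (hp : p.Prime) (hf : 1 ≤ f) (n : ℕ) : ¬ p ∣ prU (p ^ f) n := by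
  unfold prU
  rw [prod_list]
  refine not_dvd_prod hp fun i _ => ?_
  split_ifs
  · rw [← pow_mul]
    exact not_dvd_add hp (Nat.mul_pos hf (by omega))
  · rw [← pow_mul]
    exact not_dvd_sub hp (Nat.mul_pos hf (by omega))

theorem td_psu (hp : p.Prime) (hf : 1 ≤ f) {n : ℕ} (h : c ∣ (p ^ f) ^ (n * (n - 1) / 2) * prU (p ^ f) n) :
    TD p f c (XU n) (2 * (if n % 2 = 0 then n - 1 else n)) (n * (n - 1) / 2) :=
  ⟨fun ht htc => exp_psu ht (htc.trans h), fun hi => ⟨(XU_le hi).1, (XU_le hi).2.1⟩,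
   fun hk => pp_of_cop hp (prU_not_dvd hp hf n) (hk.trans h)⟩

/-! ### the data of the simple groups -/

theorem kd_psl (hp : p.Prime) {m : ℕ} (hf : 1 ≤ f)
    (hc : den (.psl m (p ^ f)) * c = num (.psl m (p ^ f))) :
    KD p f c (fun i => 1 ≤ i ∧ i ≤ m) (fun e => 2 ≤ e ∧ e ≤ m) m (m * (m - 1) / 2) := by
  have hc1 : Nat.gcd m (p ^ f - 1) * (p ^ f - 1) * c = glN m (p ^ f) := hc
  have hc' := hc1
  rw [glN_eq] at hc'
  refine ⟨fun ht htc => ?_, fun hi => hi, ?_, ?_⟩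
  · obtain ⟨i, h1, h2, h3⟩ := exists_exp ht ((htc.mul_left _).trans (dvd_of_eq hc1))
    exact ⟨i, ⟨h1, h2⟩, h3⟩
  · exact pp_of_eq hc' (Nat.Coprime.mul_right
        (Nat.Coprime.coprime_dvd_right (Nat.gcd_dvd_right _ _) (cop_sub hp hf)) (cop_sub hp hf))
  · rintro d t ⟨hd, hdm⟩ - ht
    have h1 : t ∣ Nat.gcd m (p ^ f - 1) * (p ^ f - 1) * c := by
      rw [hc']
      have h2 : (p ^ f) ^ (d - 1 + 1) - 1 ∣ ∏ j ∈ Finset.range m, ((p ^ f) ^ (j + 1) - 1) :=
        Finset.dvd_prod_of_mem (fun j => (p ^ f) ^ (j + 1) - 1) (Finset.mem_range.2 (by omega))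
      rw [Nat.sub_add_cancel (by omega), ← pow_mul] at h2
      exact ((ht.dvd dvd_rfl).trans h2).mul_left _
    have h3 : ¬ t ∣ p ^ f - 1 := fun h => by
      have := Nat.le_of_dvd (by omega) ((ht.dvd_iff _).1 h)
      nlinarith
    rcases ht.prime.dvd_mul.1 h1 with h4 | h4
    · rcases ht.prime.dvd_mul.1 h4 with h5 | h5
      · exact absurd (h5.trans (Nat.gcd_dvd_right _ _)) h3
      · exact absurd h5 h3
    · exact h4

theorem kd_spLike (hp : p.Prime) {m : ℕ} (hf : 1 ≤ f) {D : ℕ}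
    (hc : D * c = (p ^ f) ^ (m ^ 2) * prB (p ^ f) m) (hD : Nat.Coprime p D) (hD2 : D ∣ 2) :
    KD p f c (fun i => 1 ≤ i ∧ i ≤ 2 * m ∧ 2 ∣ i) (fun e => 1 ≤ e ∧ e ≤ 2 * m ∧ 2 ∣ e) (2 * m) (m ^ 2) := by
  have h0 : c ∣ (p ^ f) ^ (m ^ 2) * prB (p ^ f) m := by rw [← hc]; exact Dvd.intro_left _ rfl
  refine ⟨(td_psp hp hf h0).exp, (td_psp hp hf h0).le, pp_of_eq hc hD, ?_⟩
  rintro e t ⟨he1, he2, k, rfl⟩ h3 ht
  have h1 : t ∣ D * c := by
    rw [hc, prB_eq]
    have h2 : (p ^ f) ^ (2 * (k - 1 + 1)) - 1 ∣ ∏ j ∈ Finset.range m, ((p ^ f) ^ (2 * (j + 1)) - 1) :=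
      Finset.dvd_prod_of_mem (fun j => (p ^ f) ^ (2 * (j + 1)) - 1) (Finset.mem_range.2 (by omega))
    rw [Nat.sub_add_cancel (by omega), ← pow_mul] at h2
    exact ((ht.dvd dvd_rfl).trans h2).mul_left _
  refine (ht.prime.dvd_mul.1 h1).resolve_left fun h4 => ?_
  have h5 := lt_of_prim ht
  have h6 := Nat.le_of_dvd (by norm_num) (h4.trans hD2)
  omega

theorem kd_psp (hp : p.Prime) {m : ℕ} (hf : 1 ≤ f) (hc : den (.psp m (p ^ f)) * c = num (.psp m (p ^ f))) :
    KD p f c (fun i => 1 ≤ i ∧ i ≤ 2 * m ∧ 2 ∣ i) (fun e => 1 ≤ e ∧ e ≤ 2 * m ∧ 2 ∣ e) (2 * m) (m ^ 2) :=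
  kd_spLike hp hf (hc : Nat.gcd 2 (p ^ f - 1) * c = (p ^ f) ^ (m ^ 2) * prB (p ^ f) m)
    (Nat.Coprime.coprime_dvd_right (Nat.gcd_dvd_right _ _) (cop_sub hp hf)) (Nat.gcd_dvd_left _ _)

theorem kd_oodd (hp : p.Prime) {m : ℕ} (hf : 1 ≤ f) (ho : Odd (p ^ f))
    (hc : den (.oodd m (p ^ f)) * c = num (.oodd m (p ^ f))) :
    KD p f c (fun i => 1 ≤ i ∧ i ≤ 2 * m ∧ 2 ∣ i) (fun e => 1 ≤ e ∧ e ≤ 2 * m ∧ 2 ∣ e) (2 * m) (m ^ 2) :=
  kd_spLike hp hf (hc : 2 * c = (p ^ f) ^ (m ^ 2) * prB (p ^ f) m) (by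
    refine (Nat.coprime_primes hp Nat.prime_two).2 ?_
    rintro rfl
    rw [Nat.odd_pow_iff (by omega)] at ho
    exact absurd ho (by decide)) dvd_rfl

theorem kd_oplus (hp : p.Prime) {m : ℕ} (hm : 4 ≤ m) (hf : 1 ≤ f)
    (hc : den (.oplus m (p ^ f)) * c = num (.oplus m (p ^ f))) :
    KD p f c (fun i => 1 ≤ i ∧ i ≤ 2 * (m - 1) ∧ (2 ∣ i ∨ i = m)) (fun e => 4 ≤ e ∧ e ≤ 2 * (m - 1) ∧ 2 ∣ e)
      (2 * (m - 1)) (m * (m - 1)) := by
  have hc' : Nat.gcd 4 ((p ^ f) ^ m - 1) * c = (p ^ f) ^ (m * (m - 1)) * (((p ^ f) ^ m - 1) * prB (p ^ f) (m - 1)) := hc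
  have hco : Nat.Coprime p (Nat.gcd 4 ((p ^ f) ^ m - 1)) := by
    rw [← pow_mul]
    exact Nat.Coprime.coprime_dvd_right (Nat.gcd_dvd_right _ _) (cop_sub hp (Nat.mul_pos hf (by omega)))
  have h0 : c ∣ (p ^ f) ^ (m * (m - 1)) * (((p ^ f) ^ m - 1) * prB (p ^ f) (m - 1)) := by
    rw [← hc']; exact Dvd.intro_left _ rfl
  refine ⟨(td_oplus hp hf (by omega) h0).exp, (td_oplus hp hf (by omega) h0).le, pp_of_eq hc' hco, ?_⟩
  rintro e t ⟨he1, he2, k, rfl⟩ - ht
  exact oplus_prim k (by omega) (by omega) dvd_rfl (by omega) hc (prim_pow hf ht)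

theorem kd_ominus (hp : p.Prime) {m : ℕ} (hm : 4 ≤ m) (hf : 1 ≤ f)
    (hc : den (.ominus m (p ^ f)) * c = num (.ominus m (p ^ f))) :
    KD p f c (fun i => 1 ≤ i ∧ i ≤ 2 * m ∧ 2 ∣ i) (fun e => 4 ≤ e ∧ e ≤ 2 * m ∧ 2 ∣ e)
      (2 * m) (m * (m - 1)) := by
  have hc' : Nat.gcd 4 ((p ^ f) ^ m + 1) * c = (p ^ f) ^ (m * (m - 1)) * (((p ^ f) ^ m + 1) * prB (p ^ f) (m - 1)) := hc
  have hco : Nat.Coprime p (Nat.gcd 4 ((p ^ f) ^ m + 1)) := by
    rw [← pow_mul]
    exact Nat.Coprime.coprime_dvd_right (Nat.gcd_dvd_right _ _) (cop_add hp (Nat.mul_pos hf (by omega)))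
  have h0 : c ∣ (p ^ f) ^ (m * (m - 1)) * (((p ^ f) ^ m + 1) * prB (p ^ f) (m - 1)) := by
    rw [← hc']; exact Dvd.intro_left _ rfl
  refine ⟨(td_ominus hp hf (by omega) h0).exp, (td_ominus hp hf (by omega) h0).le, pp_of_eq hc' hco, ?_⟩
  rintro e t ⟨he1, he2, k, rfl⟩ - ht
  rcases Nat.lt_or_ge k m with h | h
  · exact ominus_prim k (by omega) (by omega) dvd_rfl (by omega) hc (prim_pow hf ht)
  · obtain rfl : k = m := by omega
    exact ominus_prim' hm hc (prim_pow hf ht)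

theorem kd_psu (hp : p.Prime) {m : ℕ} (hf : 1 ≤ f)
    (hc : den (.psu m (p ^ f)) * c = num (.psu m (p ^ f))) :
    KD p f c (XU m) (fun e => 3 ≤ e ∧ ((e ≤ m ∧ e % 2 = 0) ∨ ∃ j, e = 2 * j ∧ j ≤ m ∧ j % 2 = 1))
      (2 * (if m % 2 = 0 then m - 1 else m)) (m * (m - 1) / 2) := by
  have hc' : Nat.gcd m (p ^ f + 1) * (p ^ f + 1) * c = (p ^ f) ^ (m * (m - 1) / 2) * prU (p ^ f) m := hc
  have hco : Nat.Coprime p (Nat.gcd m (p ^ f + 1) * (p ^ f + 1)) :=
    Nat.Coprime.mul_right (Nat.Coprime.coprime_dvd_right (Nat.gcd_dvd_right _ _) (cop_add hp hf)) (cop_add hp hf)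
  have h0 : c ∣ (p ^ f) ^ (m * (m - 1) / 2) * prU (p ^ f) m := by
    rw [← hc']; exact Dvd.intro_left _ rfl
  refine ⟨(td_psu hp hf h0).exp, (td_psu hp hf h0).le, pp_of_eq hc' hco, ?_⟩
  rintro e t ⟨he3, ⟨he, he2⟩ | ⟨j, rfl, hj, hj2⟩⟩ - ht
  · have ht' := prim_pow hf ht
    refine psu_prim_aux (i := e - 1) (by omega) he3 hc ht' ?_
    unfold fU
    rw [if_neg (by rw [show (e - 1) % 2 = 1 by omega]; decide), Nat.sub_add_cancel (by omega)]
    exact ht'.dvd dvd_rfl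
  · have ht' := prim_pow hf ht
    refine psu_prim_aux (i := j - 1) (by omega) he3 hc ht' ?_
    unfold fU
    rw [if_pos (by rw [show (j - 1) % 2 = 0 by omega]; rfl), Nat.sub_add_cancel (by omega)]
    refine ht'.dvd_add dvd_rfl fun h => ?_
    have := Nat.le_of_dvd (by omega) h
    omega

/-! ### comparison -/

/-- **The comparison of the exponents.** -/
theorem comp (hp : p.Prime) (hf : 1 ≤ f) (hf₁ : 1 ≤ f₁) {XT X Y : ℕ → Prop} {MT aT M a : ℕ}
    (hT : TD p f c XT MT aT) (hK : KD p f₁ c X Y M a) (h3 : 3 ≤ f * MT) (h6 : ¬ (p = 2 ∧ f * MT = 6))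
    (hs : ∀ s, Prim p (f * MT) s → s ∣ c) (hY : Y M) (hex : p = 2 → f₁ * M = 6 → f * MT ≤ 5 → False) :
    f₁ * M = f * MT ∧ a * MT ≤ aT * M ∧
      (∀ xT, 3 ≤ f * xT → ¬ (p = 2 ∧ f * xT = 6) → (∀ s, Prim p (f * xT) s → s ∣ c) → ∃ x, X x ∧ xT * M ∣ MT * x) ∧
      (∀ e, Y e → 3 ≤ f₁ * e → ¬ (p = 2 ∧ f₁ * e = 6) → ∃ i, XT i ∧ MT * e ∣ M * i) := by
  obtain ⟨s, hs'⟩ := exists_prim hp.two_le h3 h6
  obtain ⟨x, hx, hx2⟩ := hK.exp hs' (hs s hs')
  have hx3 := hK.le hx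
  have h1 : f * MT ≤ f₁ * M :=
    (Nat.le_of_dvd (Nat.mul_pos (by omega) (by omega)) hx2).trans (Nat.mul_le_mul_left _ hx3.2)
  have hne : ¬ (p = 2 ∧ f₁ * M = 6) := fun h => by
    refine hex h.1 h.2 ?_
    rw [h.2] at h1
    have : f * MT ≠ 6 := fun h' => h6 ⟨h.1, h'⟩
    omega
  have hfM : f₁ * M = f * MT := by
    obtain ⟨t, ht⟩ := exists_prim hp.two_le (h3.trans h1) hne
    obtain ⟨i, hi, hi2⟩ := hT.exp ht (hK.has hY (h3.trans h1) ht)
    have hi3 := hT.le hi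
    have h2 : f₁ * M ≤ f * MT :=
      (Nat.le_of_dvd (Nat.mul_pos (by omega) (by omega)) hi2).trans (Nat.mul_le_mul_left _ hi3.2)
    omega
  refine ⟨hfM, ?_, fun xT h3' h6' hs2 => ?_, fun e he h3' h6' => ?_⟩
  · have h2 := hT.pp hK.pp
    have h4 : f * (a * MT) ≤ f * (aT * M) := by
      calc f * (a * MT) = (f * MT) * a := by ring
        _ = (f₁ * M) * a := by rw [hfM]
        _ = (f₁ * a) * M := by ring
        _ ≤ (f * aT) * M := Nat.mul_le_mul_right _ h2
        _ = f * (aT * M) := by ring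
    exact Nat.le_of_mul_le_mul_left h4 (by omega)
  · obtain ⟨s, hs'⟩ := exists_prim hp.two_le h3' h6'
    obtain ⟨x, hx, k, hk⟩ := hK.exp hs' (hs2 s hs')
    refine ⟨x, hx, ?_⟩
    refine Nat.dvd_of_mul_dvd_mul_left (show 0 < f by omega) ⟨k, ?_⟩
    calc f * (MT * x) = (f * MT) * x := by ring
      _ = (f₁ * M) * x := by rw [hfM]
      _ = (f₁ * x) * M := by ring
      _ = f * xT * k * M := by rw [hk]
      _ = f * (xT * M) * k := by ring
  · obtain ⟨t, ht⟩ := exists_prim hp.two_le h3' h6'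
    obtain ⟨i, hi, k, hk⟩ := hT.exp ht (hK.has he h3' ht)
    refine ⟨i, hi, ?_⟩
    refine Nat.dvd_of_mul_dvd_mul_left (show 0 < f₁ by omega) ⟨k, ?_⟩
    calc f₁ * (M * i) = (f₁ * M) * i := by ring
      _ = (f * MT) * i := by rw [hfM]
      _ = (f * i) * MT := by ring
      _ = f₁ * e * k * MT := by rw [hk]
      _ = f₁ * (MT * e) * k := by ring

end Cfsg.Agent.H264.FKS
end

-- part: H264/FKS/Names
section
/-!
# Exponent data of the simple groups of Lie type, by name (helper264)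

`kd_all`: `KD p f c (Xg g) (Yg g) (Mg g) (ag g)` for every name `g` of characteristic `p` and field `p ^ f`.
-/

set_option autoImplicit false

namespace Cfsg.Agent.H264.FKS

open Cfsg.Agent.OrdDiv Cfsg.Agent.H436 Cfsg.Agent.H915.GN Cfsg.Agent.H264.GN

variable {p f c : ℕ}

/-- the parameter `q` -/
def fld : Grp → ℕ
  | .psl _ q => q
  | .psp _ q => q
  | .psu _ q => q
  | .oodd _ q => q
  | .oplus _ q => q
  | .ominus _ q => q
  | .g2 q => q
  | .f4 q => q
  | .e6 q => q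
  | .e7 q => q
  | .e8 q => q
  | .te6 q => q
  | .td4 q => q
  | .sz q => q
  | .ree q => q
  | .tf4 q => q
  | _ => 0

/-- the top exponent -/
def Mg : Grp → ℕ
  | .psl m _ => m
  | .psp m _ => 2 * m
  | .psu m _ => 2 * (if m % 2 = 0 then m - 1 else m)
  | .oodd m _ => 2 * m
  | .oplus m _ => 2 * (m - 1)
  | .ominus m _ => 2 * m
  | .g2 _ => 6
  | .f4 _ => 12
  | .e6 _ => 12
  | .e7 _ => 18
  | .e8 _ => 30
  | .te6 _ => 18
  | .td4 _ => 12
  | .sz _ => 4
  | .ree _ => 6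
  | .tf4 _ => 12
  | _ => 0

/-- the exponent of the power of `q` -/
def ag : Grp → ℕ
  | .psl m _ => m * (m - 1) / 2
  | .psp m _ => m ^ 2
  | .psu m _ => m * (m - 1) / 2
  | .oodd m _ => m ^ 2
  | .oplus m _ => m * (m - 1)
  | .ominus m _ => m * (m - 1)
  | .g2 _ => 6
  | .f4 _ => 24
  | .e6 _ => 36
  | .e7 _ => 63
  | .e8 _ => 120
  | .te6 _ => 36
  | .td4 _ => 12
  | .sz _ => 2
  | .ree _ => 3
  | .tf4 _ => 12
  | _ => 0

/-- the exponents occurring in the order -/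
def Xg : Grp → ℕ → Prop
  | .psl m _ => fun i => 1 ≤ i ∧ i ≤ m
  | .psp m _ => fun i => 1 ≤ i ∧ i ≤ 2 * m ∧ 2 ∣ i
  | .psu m _ => XU m
  | .oodd m _ => fun i => 1 ≤ i ∧ i ≤ 2 * m ∧ 2 ∣ i
  | .oplus m _ => fun i => 1 ≤ i ∧ i ≤ 2 * (m - 1) ∧ (2 ∣ i ∨ i = m)
  | .ominus m _ => fun i => 1 ≤ i ∧ i ≤ 2 * m ∧ 2 ∣ i
  | .g2 _ => fun i => i ∈ [2, 6]
  | .f4 _ => fun i => i ∈ [2, 6, 8, 12]
  | .e6 _ => fun i => i ∈ [2, 5, 6, 8, 9, 12]
  | .e7 _ => fun i => i ∈ [2, 6, 8, 10, 12, 14, 18]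
  | .e8 _ => fun i => i ∈ [2, 8, 12, 14, 18, 20, 24, 30]
  | .te6 _ => fun i => i ∈ [2, 10, 6, 8, 18, 12]
  | .td4 _ => fun i => i ∈ [2, 6, 12]
  | .sz _ => fun i => i ∈ [1, 4]
  | .ree _ => fun i => i ∈ [1, 6]
  | .tf4 _ => fun i => i ∈ [1, 6, 4, 12]
  | _ => fun _ => False

/-- exponents with all primitive primes in the order -/
def Yg : Grp → ℕ → Prop
  | .psl m _ => fun e => 2 ≤ e ∧ e ≤ m
  | .psp m _ => fun e => 1 ≤ e ∧ e ≤ 2 * m ∧ 2 ∣ e
  | .psu m _ => fun e => 3 ≤ e ∧ ((e ≤ m ∧ e % 2 = 0) ∨ ∃ j, e = 2 * j ∧ j ≤ m ∧ j % 2 = 1)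
  | .oodd m _ => fun e => 1 ≤ e ∧ e ≤ 2 * m ∧ 2 ∣ e
  | .oplus m _ => fun e => 4 ≤ e ∧ e ≤ 2 * (m - 1) ∧ 2 ∣ e
  | .ominus m _ => fun e => 4 ≤ e ∧ e ≤ 2 * m ∧ 2 ∣ e
  | .g2 _ => fun e => e ∈ [2, 3, 6]
  | .f4 _ => fun e => e ∈ [2, 3, 4, 6, 8, 12]
  | .e6 _ => fun e => e ∈ [2, 3, 4, 5, 6, 8, 9, 12]
  | .e7 _ => fun e => e ∈ [2, 3, 4, 5, 6, 7, 8, 9, 10, 12, 14, 18]
  | .e8 _ => fun e => e ∈ [2, 3, 4, 5, 6, 7, 8, 9, 10, 12, 14, 15, 18, 20, 24, 30]
  | .te6 _ => fun e => e ∈ [2, 3, 4, 6, 8, 10, 12, 18]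
  | .td4 _ => fun e => e ∈ [2, 3, 6, 12]
  | .sz _ => fun e => e ∈ [1, 4]
  | .ree _ => fun e => e ∈ [1, 6]
  | .tf4 _ => fun e => e ∈ [1, 4, 6, 12]
  | _ => fun _ => False

theorem kd_exc {a D N M : ℕ} (L : List ℕ) {Y : ℕ → Prop} (hc : D * c = (p ^ f) ^ a * N)
    (hD0 : 0 < D) (hD : D ≤ 3) (hco : Nat.Coprime p D) (hup : N ∣ (L.map fun d => (p ^ f) ^ d - 1).prod)
    (hL : ∀ d ∈ L, 1 ≤ d ∧ d ≤ M) (hY : ∀ {e t : ℕ}, Y e → Prim p (f * e) t → t ∣ N) :
    KD p f c (fun i => i ∈ L) Y M a := by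
  refine ⟨fun ht htc => ?_, fun {i} hi => hL i hi, pp_of_eq hc hco, fun he h3 ht => ?_⟩
  · have h1 := (htc.mul_left D)
    rw [hc] at h1
    exact exp_of_list ht (h1.trans (Nat.mul_dvd_mul_left _ hup))
  · refine ofD ht h3 hD0 hD ?_
    rw [hc]
    exact (hY he ht).mul_left _

theorem dvd_of_prim_list {L : List ℕ} {e t d : ℕ} (ht : Prim p (f * e) t) (hd : d ∈ L) (he : e ∣ d) :
    t ∣ (L.map fun d => (p ^ f) ^ d - 1).prod := by
  refine Dvd.dvd.trans ?_ (List.dvd_prod (List.mem_map_of_mem (f := fun d => (p ^ f) ^ d - 1) hd))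
  rw [← pow_mul]
  exact ht.dvd (Nat.mul_dvd_mul_left _ he)

theorem exists_of_list {L K : List ℕ} (h : ∀ e ∈ K, ∃ d ∈ L, e ∣ d) {e t : ℕ} (he : e ∈ K) (ht : Prim p (f * e) t) :
    t ∣ (L.map fun d => (p ^ f) ^ d - 1).prod := by
  obtain ⟨d, hd, h2⟩ := h e he
  exact dvd_of_prim_list ht hd h2

theorem kd_g2 (hc : den (.g2 (p ^ f)) * c = num (.g2 (p ^ f))) :
    KD p f c (Xg (.g2 (p ^ f))) (Yg (.g2 (p ^ f))) 6 6 := by
  have h : 1 * c = (p ^ f) ^ 6 * (((p ^ f) ^ 2 - 1) * ((p ^ f) ^ 6 - 1)) := hc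
  have h2 : 1 * c = (p ^ f) ^ 6 * ([2, 6].map fun d => (p ^ f) ^ d - 1).prod := by
    rw [h]
    simp only [List.map_cons, List.map_nil, List.prod_cons, List.prod_nil, mul_one]
  exact kd_exc [2, 6] h2 one_pos (by norm_num) (Nat.coprime_one_right _) dvd_rfl (by decide)
    (fun he ht => exists_of_list (K := [2, 3, 6]) (by decide) he ht)

theorem kd_f4 (hc : den (.f4 (p ^ f)) * c = num (.f4 (p ^ f))) :
    KD p f c (Xg (.f4 (p ^ f))) (Yg (.f4 (p ^ f))) 12 24 := by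
  have h : 1 * c = (p ^ f) ^ 24 * (((p ^ f) ^ 2 - 1) * ((p ^ f) ^ 6 - 1) * ((p ^ f) ^ 8 - 1) *
      ((p ^ f) ^ 12 - 1)) := hc
  have h2 : 1 * c = (p ^ f) ^ 24 * ([2, 6, 8, 12].map fun d => (p ^ f) ^ d - 1).prod := by
    rw [h]
    simp only [List.map_cons, List.map_nil, List.prod_cons, List.prod_nil, mul_one, mul_assoc]
  exact kd_exc [2, 6, 8, 12] h2 one_pos (by norm_num) (Nat.coprime_one_right _) dvd_rfl (by decide)
    (fun he ht => exists_of_list (K := [2, 3, 4, 6, 8, 12]) (by decide) he ht)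

theorem kd_e6 (hp : p.Prime) (hf : 1 ≤ f) (hc : den (.e6 (p ^ f)) * c = num (.e6 (p ^ f))) :
    KD p f c (Xg (.e6 (p ^ f))) (Yg (.e6 (p ^ f))) 12 36 := by
  have h : Nat.gcd 3 (p ^ f - 1) * c = (p ^ f) ^ 36 * (((p ^ f) ^ 2 - 1) * ((p ^ f) ^ 5 - 1) * ((p ^ f) ^ 6 - 1) *
      ((p ^ f) ^ 8 - 1) * ((p ^ f) ^ 9 - 1) * ((p ^ f) ^ 12 - 1)) := hc
  have h2 : Nat.gcd 3 (p ^ f - 1) * c = (p ^ f) ^ 36 * ([2, 5, 6, 8, 9, 12].map fun d => (p ^ f) ^ d - 1).prod := by
    rw [h]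
    simp only [List.map_cons, List.map_nil, List.prod_cons, List.prod_nil, mul_one, mul_assoc]
  exact kd_exc [2, 5, 6, 8, 9, 12] h2 (Nat.gcd_pos_of_pos_left _ (by norm_num)) (Nat.gcd_le_left _ (by norm_num))
    (Nat.Coprime.coprime_dvd_right (Nat.gcd_dvd_right _ _) (cop_sub hp hf)) dvd_rfl (by decide)
    (fun he ht => exists_of_list (K := [2, 3, 4, 5, 6, 8, 9, 12]) (by decide) he ht)

theorem kd_e7 (hp : p.Prime) (hf : 1 ≤ f) (hc : den (.e7 (p ^ f)) * c = num (.e7 (p ^ f))) :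
    KD p f c (Xg (.e7 (p ^ f))) (Yg (.e7 (p ^ f))) 18 63 := by
  have h : Nat.gcd 2 (p ^ f - 1) * c = (p ^ f) ^ 63 * (((p ^ f) ^ 2 - 1) * ((p ^ f) ^ 6 - 1) *
      ((p ^ f) ^ 8 - 1) * ((p ^ f) ^ 10 - 1) * ((p ^ f) ^ 12 - 1) * ((p ^ f) ^ 14 - 1) *
      ((p ^ f) ^ 18 - 1)) := hc
  have h2 : Nat.gcd 2 (p ^ f - 1) * c =
      (p ^ f) ^ 63 * ([2, 6, 8, 10, 12, 14, 18].map fun d => (p ^ f) ^ d - 1).prod := by
    rw [h]
    simp only [List.map_cons, List.map_nil, List.prod_cons, List.prod_nil, mul_one, mul_assoc]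
  exact kd_exc [2, 6, 8, 10, 12, 14, 18] h2 (Nat.gcd_pos_of_pos_left _ (by norm_num))
    ((Nat.gcd_le_left _ (by norm_num)).trans (by norm_num))
    (Nat.Coprime.coprime_dvd_right (Nat.gcd_dvd_right _ _) (cop_sub hp hf)) dvd_rfl (by decide)
    (fun he ht => exists_of_list (K := [2, 3, 4, 5, 6, 7, 8, 9, 10, 12, 14, 18]) (by decide) he ht)

theorem kd_e8 (hc : den (.e8 (p ^ f)) * c = num (.e8 (p ^ f))) :
    KD p f c (Xg (.e8 (p ^ f))) (Yg (.e8 (p ^ f))) 30 120 := by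
  have h : 1 * c = (p ^ f) ^ 120 * (((p ^ f) ^ 2 - 1) * ((p ^ f) ^ 8 - 1) * ((p ^ f) ^ 12 - 1) *
      ((p ^ f) ^ 14 - 1) * ((p ^ f) ^ 18 - 1) * ((p ^ f) ^ 20 - 1) * ((p ^ f) ^ 24 - 1) *
      ((p ^ f) ^ 30 - 1)) := hc
  have h2 : 1 * c = (p ^ f) ^ 120 * ([2, 8, 12, 14, 18, 20, 24, 30].map fun d => (p ^ f) ^ d - 1).prod := by
    rw [h]
    simp only [List.map_cons, List.map_nil, List.prod_cons, List.prod_nil, mul_one, mul_assoc]
  exact kd_exc [2, 8, 12, 14, 18, 20, 24, 30] h2 one_pos (by norm_num) (Nat.coprime_one_right _) dvd_rfl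
    (by decide)
    (fun he ht => exists_of_list (K := [2, 3, 4, 5, 6, 7, 8, 9, 10, 12, 14, 15, 18, 20, 24, 30]) (by decide) he ht)

theorem kd_te6 (hp : p.Prime) (hf : 1 ≤ f) (hc : den (.te6 (p ^ f)) * c = num (.te6 (p ^ f))) :
    KD p f c (Xg (.te6 (p ^ f))) (Yg (.te6 (p ^ f))) 18 36 := by
  have h : Nat.gcd 3 (p ^ f + 1) * c = (p ^ f) ^ 36 * (((p ^ f) ^ 2 - 1) * ((p ^ f) ^ 5 + 1) * ((p ^ f) ^ 6 - 1) *
      ((p ^ f) ^ 8 - 1) * ((p ^ f) ^ 9 + 1) * ((p ^ f) ^ 12 - 1)) := hc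
  refine kd_exc [2, 10, 6, 8, 18, 12] h (Nat.gcd_pos_of_pos_left _ (by norm_num))
    (Nat.gcd_le_left _ (by norm_num))
    (Nat.Coprime.coprime_dvd_right (Nat.gcd_dvd_right _ _) (cop_add hp hf)) ?_ (by decide) ?_
  · simp only [List.map_cons, List.map_nil, List.prod_cons, List.prod_nil, mul_one]
    have h1 := add_dvd (p ^ f) 5
    have h2 := add_dvd (p ^ f) 9
    norm_num only at h1 h2
    rw [mul_assoc, mul_assoc, mul_assoc, mul_assoc]
    exact Nat.mul_dvd_mul_left _ (Nat.mul_dvd_mul h1 (Nat.mul_dvd_mul_left _ (Nat.mul_dvd_mul_left _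
      (Nat.mul_dvd_mul_right h2 _))))
  · intro e t he ht
    have key : ∀ {N : ℕ}, ((p ^ f) ^ 12 - 1 ∣ N) → ((p ^ f) ^ 8 - 1 ∣ N) → ((p ^ f) ^ 5 + 1 ∣ N) →
        ((p ^ f) ^ 9 + 1 ∣ N) → t ∣ N := by
      intro N h12 h8 h5 h9
      rcases (by decide : ∀ e ∈ [2, 3, 4, 6, 8, 10, 12, 18], e ∣ 12 ∨ e ∣ 8 ∨ e = 10 ∨ e = 18) e he with
        h1 | h1 | rfl | rfl
      · exact ((by rw [← pow_mul]; exact ht.dvd (Nat.mul_dvd_mul_left _ h1) : t ∣ (p ^ f) ^ 12 - 1)).trans h12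
      · exact ((by rw [← pow_mul]; exact ht.dvd (Nat.mul_dvd_mul_left _ h1) : t ∣ (p ^ f) ^ 8 - 1)).trans h8
      · exact dvd_of_prim' (d := 5) ht hf (by norm_num) h5
      · exact dvd_of_prim' (d := 9) ht hf (by norm_num) h9
    refine key ?_ ?_ ?_ ?_
    · exact Dvd.intro_left _ rfl
    · exact (Dvd.intro_left _ rfl).trans ((Dvd.intro _ rfl).trans (Dvd.intro _ rfl))
    · exact (Dvd.intro_left _ rfl).trans ((Dvd.intro _ rfl).trans ((Dvd.intro _ rfl).trans
        ((Dvd.intro _ rfl).trans (Dvd.intro _ rfl))))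
    · exact (Dvd.intro_left _ rfl).trans (Dvd.intro _ rfl)

theorem kd_td4 (hp : p.Prime) (hf : 1 ≤ f) (hc : den (.td4 (p ^ f)) * c = num (.td4 (p ^ f))) :
    KD p f c (Xg (.td4 (p ^ f))) (Yg (.td4 (p ^ f))) 12 12 := by
  have hQ : 1 ≤ p ^ f := Nat.one_le_pow _ _ hp.pos
  have h : 1 * c = (p ^ f) ^ 12 * (((p ^ f) ^ 2 - 1) * ((p ^ f) ^ 6 - 1) * ((p ^ f) ^ 8 + (p ^ f) ^ 4 + 1)) := hc
  refine kd_exc [2, 6, 12] h one_pos (by norm_num) (Nat.coprime_one_right _) ?_ (by decide) ?_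
  · simp only [List.map_cons, List.map_nil, List.prod_cons, List.prod_nil, mul_one]
    rw [mul_assoc ((p ^ f) ^ 2 - 1)]
    refine Nat.mul_dvd_mul_left _ (Nat.mul_dvd_mul_left _ ?_)
    rw [td4_eq hQ]
    exact Dvd.intro _ rfl
  · intro e t he ht
    rcases (by decide : ∀ e ∈ [2, 3, 6, 12], e ∣ 6 ∨ e = 12) e he with h1 | rfl
    · refine Dvd.dvd.trans (?_ : t ∣ (p ^ f) ^ 6 - 1) ((Dvd.intro_left _ rfl).trans (Dvd.intro _ rfl))
      rw [← pow_mul]
      exact ht.dvd (Nat.mul_dvd_mul_left _ h1)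
    · have h1 := ht.dvd dvd_rfl
      rw [pow_mul, td4_eq hQ] at h1
      refine Dvd.dvd.trans ((ht.prime.dvd_mul.1 h1).resolve_right fun h2 => ?_) (Dvd.intro_left _ rfl)
      rw [← pow_mul, ht.dvd_iff] at h2
      have := Nat.le_of_dvd (by omega) h2
      omega

theorem kd_sz (hp : p.Prime) (hf : 1 ≤ f) (hc : den (.sz (p ^ f)) * c = num (.sz (p ^ f))) :
    KD p f c (Xg (.sz (p ^ f))) (Yg (.sz (p ^ f))) 4 2 := by
  have h : 1 * c = (p ^ f) ^ 2 * ((p ^ f - 1) * ((p ^ f) ^ 2 + 1)) := hc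
  refine kd_exc [1, 4] h one_pos (by norm_num) (Nat.coprime_one_right _) ?_ (by decide) ?_
  · simp only [List.map_cons, List.map_nil, List.prod_cons, List.prod_nil, mul_one]
    have h1 := add_dvd (p ^ f) 2
    norm_num only at h1
    rw [pow_one]
    exact Nat.mul_dvd_mul_left _ h1
  · intro e t he ht
    rcases (by decide : ∀ e ∈ [1, 4], e = 1 ∨ e = 4) e he with rfl | rfl
    · refine Dvd.dvd.trans (?_ : t ∣ p ^ f - 1) (Dvd.intro _ rfl)
      have := ht.dvd dvd_rfl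
      rwa [mul_one] at this
    · exact dvd_of_prim' (d := 2) ht hf (by norm_num) (Dvd.intro_left _ rfl)

theorem kd_ree (hp : p.Prime) (hf : 1 ≤ f) (hc : den (.ree (p ^ f)) * c = num (.ree (p ^ f))) :
    KD p f c (Xg (.ree (p ^ f))) (Yg (.ree (p ^ f))) 6 3 := by
  have h : 1 * c = (p ^ f) ^ 3 * ((p ^ f - 1) * ((p ^ f) ^ 3 + 1)) := hc
  refine kd_exc [1, 6] h one_pos (by norm_num) (Nat.coprime_one_right _) ?_ (by decide) ?_
  · simp only [List.map_cons, List.map_nil, List.prod_cons, List.prod_nil, mul_one]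
    have h1 := add_dvd (p ^ f) 3
    norm_num only at h1
    rw [pow_one]
    exact Nat.mul_dvd_mul_left _ h1
  · intro e t he ht
    rcases (by decide : ∀ e ∈ [1, 6], e = 1 ∨ e = 6) e he with rfl | rfl
    · refine Dvd.dvd.trans (?_ : t ∣ p ^ f - 1) (Dvd.intro _ rfl)
      have := ht.dvd dvd_rfl
      rwa [mul_one] at this
    · exact dvd_of_prim' (d := 3) ht hf (by norm_num) (Dvd.intro_left _ rfl)

theorem kd_tf4 (hp : p.Prime) (hf : 1 ≤ f) (hc : den (.tf4 (p ^ f)) * c = num (.tf4 (p ^ f))) :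
    KD p f c (Xg (.tf4 (p ^ f))) (Yg (.tf4 (p ^ f))) 12 12 := by
  have h : 1 * c = (p ^ f) ^ 12 * ((p ^ f - 1) * ((p ^ f) ^ 3 + 1) * ((p ^ f) ^ 4 - 1) * ((p ^ f) ^ 6 + 1)) := hc
  refine kd_exc [1, 6, 4, 12] h one_pos (by norm_num) (Nat.coprime_one_right _) ?_ (by decide) ?_
  · simp only [List.map_cons, List.map_nil, List.prod_cons, List.prod_nil, mul_one]
    have h1 := add_dvd (p ^ f) 3
    have h2 := add_dvd (p ^ f) 6
    norm_num only at h1 h2
    rw [mul_assoc, mul_assoc, pow_one]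
    exact Nat.mul_dvd_mul_left _ (Nat.mul_dvd_mul h1 (Nat.mul_dvd_mul_left _ h2))
  · intro e t he ht
    rcases (by decide : ∀ e ∈ [1, 4, 6, 12], e = 1 ∨ e = 4 ∨ e = 6 ∨ e = 12) e he with rfl | rfl | rfl | rfl
    · refine Dvd.dvd.trans (?_ : t ∣ p ^ f - 1) ((Dvd.intro _ rfl).trans ((Dvd.intro _ rfl).trans (Dvd.intro _ rfl)))
      have := ht.dvd dvd_rfl
      rwa [mul_one] at this
    · refine Dvd.dvd.trans (?_ : t ∣ (p ^ f) ^ 4 - 1) ((Dvd.intro_left _ rfl).trans (Dvd.intro _ rfl))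
      rw [← pow_mul]
      exact ht.dvd dvd_rfl
    · exact dvd_of_prim' (d := 3) ht hf (by norm_num)
        ((Dvd.intro_left _ rfl).trans ((Dvd.intro _ rfl).trans (Dvd.intro _ rfl)))
    · exact dvd_of_prim' (d := 6) ht hf (by norm_num) (Dvd.intro_left _ rfl)

/-- **The data of all groups of Lie type.** -/
theorem kd_all {g : Grp} (hp : p.Prime) (hg : Cond g) (hch : HasChar p g) (hc : den g * c = num g) :
    ∃ f, 1 ≤ f ∧ fld g = p ^ f ∧ KD p f c (Xg g) (Yg g) (Mg g) (ag g) ∧ Yg g (Mg g) := by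
  cases g
  case psl m q =>
    obtain ⟨f, rfl⟩ := hch
    obtain ⟨hm, hm2, hq⟩ := hg
    exact ⟨f, f_pos hq rfl, rfl, kd_psl hp (f_pos hq rfl) hc, hm, le_rfl⟩
  case psp m q =>
    obtain ⟨f, rfl⟩ := hch
    obtain ⟨hm, hm2, hq⟩ := hg
    exact ⟨f, f_pos hq rfl, rfl, kd_psp hp (f_pos hq rfl) hc, by show 1 ≤ 2 * m; omega, le_rfl, Dvd.intro _ rfl⟩
  case psu m q =>
    obtain ⟨f, rfl⟩ := hch
    obtain ⟨hm, hm2, hq⟩ := hg
    refine ⟨f, f_pos hq rfl, rfl, kd_psu hp (f_pos hq rfl) hc, ?_, ?_⟩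
    · show 3 ≤ 2 * (if m % 2 = 0 then m - 1 else m)
      split_ifs <;> omega
    · right
      refine ⟨if m % 2 = 0 then m - 1 else m, rfl, ?_, ?_⟩
      · split_ifs <;> omega
      · split_ifs <;> omega
  case oodd m q =>
    obtain ⟨f, rfl⟩ := hch
    obtain ⟨hm, hm2, hq⟩ := hg
    exact ⟨f, f_pos hq rfl, rfl, kd_oodd hp (f_pos hq rfl) hm2 hc, by show 1 ≤ 2 * m; omega, le_rfl, Dvd.intro _ rfl⟩
  case oplus m q =>
    obtain ⟨f, rfl⟩ := hch
    obtain ⟨hm, hq⟩ := hg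
    exact ⟨f, f_pos hq rfl, rfl, kd_oplus hp hm (f_pos hq rfl) hc, by show 4 ≤ 2 * (m - 1); omega, le_rfl,
      Dvd.intro _ rfl⟩
  case ominus m q =>
    obtain ⟨f, rfl⟩ := hch
    obtain ⟨hm, hq⟩ := hg
    exact ⟨f, f_pos hq rfl, rfl, kd_ominus hp hm (f_pos hq rfl) hc, by show 4 ≤ 2 * m; omega, le_rfl,
      Dvd.intro _ rfl⟩
  case g2 q =>
    obtain ⟨f, rfl⟩ := hch
    exact ⟨f, f_pos hg.2 rfl, rfl, kd_g2 hc, by show (6 : ℕ) ∈ _; decide⟩
  case f4 q =>
    obtain ⟨f, rfl⟩ := hch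
    exact ⟨f, f_pos hg rfl, rfl, kd_f4 hc, by show (12 : ℕ) ∈ _; decide⟩
  case e6 q =>
    obtain ⟨f, rfl⟩ := hch
    exact ⟨f, f_pos hg rfl, rfl, kd_e6 hp (f_pos hg rfl) hc, by show (12 : ℕ) ∈ _; decide⟩
  case e7 q =>
    obtain ⟨f, rfl⟩ := hch
    exact ⟨f, f_pos hg rfl, rfl, kd_e7 hp (f_pos hg rfl) hc, by show (18 : ℕ) ∈ _; decide⟩
  case e8 q =>
    obtain ⟨f, rfl⟩ := hch
    exact ⟨f, f_pos hg rfl, rfl, kd_e8 hc, by show (30 : ℕ) ∈ _; decide⟩
  case te6 q =>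
    obtain ⟨f, rfl⟩ := hch
    exact ⟨f, f_pos hg rfl, rfl, kd_te6 hp (f_pos hg rfl) hc, by show (18 : ℕ) ∈ _; decide⟩
  case td4 q =>
    obtain ⟨f, rfl⟩ := hch
    exact ⟨f, f_pos hg rfl, rfl, kd_td4 hp (f_pos hg rfl) hc, by show (12 : ℕ) ∈ _; decide⟩
  case sz q =>
    obtain ⟨f, rfl⟩ := hch
    obtain ⟨m, hm, hqm⟩ := hg
    have hf : 1 ≤ f := f_pos' (q := p ^ f) (by rw [hqm]; exact Nat.one_lt_two_pow (by omega)) rfl
    exact ⟨f, hf, rfl, kd_sz hp hf hc, by show (4 : ℕ) ∈ _; decide⟩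
  case ree q =>
    obtain ⟨f, rfl⟩ := hch
    obtain ⟨m, hm, hqm⟩ := hg
    have hf : 1 ≤ f := f_pos' (q := p ^ f) (by rw [hqm]; exact Nat.one_lt_pow (by omega) (by norm_num)) rfl
    exact ⟨f, hf, rfl, kd_ree hp hf hc, by show (6 : ℕ) ∈ _; decide⟩
  case tf4 q =>
    obtain ⟨f, rfl⟩ := hch
    obtain ⟨m, hm, hqm⟩ := hg
    have hf : 1 ≤ f := f_pos' (q := p ^ f) (by rw [hqm]; exact Nat.one_lt_two_pow (by omega)) rfl
    exact ⟨f, hf, rfl, kd_tf4 hp hf hc, by show (12 : ℕ) ∈ _; decide⟩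
  all_goals exact absurd hch not_false

end Cfsg.Agent.H264.FKS
end
end

-- part: H264/FKS/CharP
section
prune_inst 0x301005002c0000000000000002000020300000000000000000000400090100000040000002000402004410801800000000100000400000000a003000000600000000020010340f00280000002003180c00000000000000000000000000000000000000000
set_option linter.all false
open scoped Cfsg.Agent.FastGrp

-- part: H264/FKS/Elim
section
/-!
# Comparison of exponents: elimination (helper264)

`caseA`: the two top exponents of the big group are in the ratio `N : N - 1`; `caseB`: `N : N - 2`, `N` odd.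
-/

set_option autoImplicit false

namespace Cfsg.Agent.H264.FKS

open Cfsg.Agent.OrdDiv Cfsg.Agent.H436 Cfsg.Agent.H915.GN Cfsg.Agent.H264.GN

/-- survivors for the ratio `N : N - 1` -/
def OutA (N ρ : ℕ) : Grp → Prop
  | .psl m _ => m = N
  | .psp m _ => m = N ∧ N ≤ ρ
  | .oodd m _ => m = N ∧ N ≤ ρ
  | .psu m _ => m = 4 ∧ N = 3
  | .oplus m _ => m = N + 1 ∧ ρ = N + 1
  | .ominus m _ => m = N ∧ N - 1 ≤ ρ
  | .f4 _ => N = 3 ∧ ρ = 4
  | .te6 _ => N = 3 ∧ ρ = 4
  | _ => False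

theorem ratioA {N M x : ℕ} (hN : 3 ≤ N) (hx1 : 1 ≤ x) (hx : x ≤ M) (h : (N - 1) * M ∣ N * x) :
    N * x = (N - 1) * M := by
  obtain ⟨k, hk⟩ := h
  obtain ⟨n, rfl⟩ : ∃ n, N = n + 1 := ⟨N - 1, by omega⟩
  rw [Nat.add_sub_cancel] at hk ⊢
  rcases Nat.lt_or_ge k 2 with h2 | h2
  · interval_cases k
    · rw [mul_zero] at hk
      have : 0 < (n + 1) * x := by positivity
      omega
    · rw [mul_one] at hk
      exact hk
  · exfalso
    have h3 : n * M * 2 ≤ n * M * k := Nat.mul_le_mul_left _ h2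
    have h4 : (n + 1) * x ≤ (n + 1) * M := Nat.mul_le_mul_left _ hx
    have h5 : (n + 1) * M < n * M * 2 := by nlinarith only [hx1, hN, h4]
    omega

theorem dvdA {N M x : ℕ} (hN : 1 ≤ N) (h : N * x = (N - 1) * M) : N ∣ M := by
  have h1 : N ∣ (N - 1) * M := ⟨x, h.symm⟩
  refine Nat.Coprime.dvd_of_dvd_mul_left ?_ h1
  obtain ⟨n, rfl⟩ : ∃ n, N = n + 1 := ⟨N - 1, by omega⟩
  rw [Nat.add_sub_cancel]
  simp

/-- `m` a multiple of `N ≥ 3`, `m ≤ N + 2` -/
theorem eq_of_dvd {N m : ℕ} (hN : 3 ≤ N) (hm : 1 ≤ m) (h : N ∣ m) (h2 : m ≤ N + 2) : m = N := by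
  obtain ⟨k, rfl⟩ := h
  rcases Nat.lt_or_ge k 2 with h3 | h3
  · interval_cases k
    · omega
    · rw [mul_one]
  · have : N * 2 ≤ N * k := Nat.mul_le_mul_left _ h3
    omega

theorem two_half (m : ℕ) : 2 * (m * (m - 1) / 2) = m * (m - 1) := (half m).symm

theorem caseA {p N ρ : ℕ} (hN : 3 ≤ N) (hρ : ρ ≤ N + 1) {g : Grp} (hg : Cond g) (hch : HasChar p g)
    (h1 : 2 * ag g ≤ ρ * Mg g) (hle : ∀ x, Xg g x → 1 ≤ x ∧ x ≤ Mg g)
    (h2 : ∃ x, Xg g x ∧ (N - 1) * Mg g ∣ N * x) : OutA N ρ g := by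
  obtain ⟨x, hx, hxd⟩ := h2
  obtain ⟨hx1, hx2⟩ := hle x hx
  have hr := ratioA hN hx1 hx2 hxd
  have hd := dvdA (by omega) hr
  cases g
  case psl m q =>
    obtain ⟨hm, -, -⟩ := hg
    have h1' : 2 * (m * (m - 1) / 2) ≤ ρ * m := h1
    rw [two_half] at h1'
    have h3 : m - 1 ≤ ρ := by
      rw [mul_comm ρ] at h1'
      exact Nat.le_of_mul_le_mul_left h1' (by omega)
    exact eq_of_dvd hN (by omega) hd (by omega)
  case psp m q =>
    obtain ⟨hm, -, -⟩ := hg
    have h1' : 2 * m ^ 2 ≤ ρ * (2 * m) := h1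
    have h3 : m ≤ ρ := by
      have : (2 * m) * m ≤ (2 * m) * ρ := by linarith only [h1']
      exact Nat.le_of_mul_le_mul_left this (by omega)
    obtain ⟨-, -, i, rfl⟩ : 1 ≤ x ∧ x ≤ 2 * m ∧ 2 ∣ x := hx
    have hr' : N * (2 * i) = (N - 1) * (2 * m) := hr
    have h4 : N * i = (N - 1) * m := by
      have : 2 * (N * i) = 2 * ((N - 1) * m) := by linarith only [hr']
      omega
    have h5 := eq_of_dvd hN (by omega) (dvdA (by omega) h4) (by omega)
    exact ⟨h5, by omega⟩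
  case oodd m q =>
    obtain ⟨hm, -, -⟩ := hg
    have h1' : 2 * m ^ 2 ≤ ρ * (2 * m) := h1
    have h3 : m ≤ ρ := by
      have : (2 * m) * m ≤ (2 * m) * ρ := by linarith only [h1']
      exact Nat.le_of_mul_le_mul_left this (by omega)
    obtain ⟨-, -, i, rfl⟩ : 1 ≤ x ∧ x ≤ 2 * m ∧ 2 ∣ x := hx
    have hr' : N * (2 * i) = (N - 1) * (2 * m) := hr
    have h4 : N * i = (N - 1) * m := by
      have : 2 * (N * i) = 2 * ((N - 1) * m) := by linarith only [hr']
      omega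
    have h5 := eq_of_dvd hN (by omega) (dvdA (by omega) h4) (by omega)
    exact ⟨h5, by omega⟩
  case psu m q =>
    obtain ⟨hm, -, -⟩ := hg
    have hx' : XU m x := hx
    obtain ⟨n, rfl⟩ : ∃ n, N = n + 1 := ⟨N - 1, by omega⟩
    rw [Nat.add_sub_cancel] at hr
    rcases Nat.mod_two_eq_zero_or_one m with h0 | h0
    · -- `m` even
      have hr' : (n + 1) * x = n * (2 * (if m % 2 = 0 then m - 1 else m)) := hr
      rw [if_pos h0] at hr'
      obtain ⟨k, rfl⟩ : ∃ k, m = k + 1 := ⟨m - 1, by omega⟩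
      rw [Nat.add_sub_cancel] at hr'
      rcases hx' with ⟨hx3, hx4, hx5⟩ | ⟨j, rfl, hj, hj2⟩
      · -- `(n+1) x = 2 n k`, `x ≤ k + 1`
        have h3 : (n + 1) * x ≤ (n + 1) * (k + 1) := Nat.mul_le_mul_left _ hx4
        have h4 : 2 * (n * k) ≤ n * k + n + k + 1 := by linarith only [hr', h3]
        -- `(n - 1) (k - 1) ≤ 2`
        have hk3 : 3 ≤ k := by omega
        have hn2 : n = 2 := by
          by_contra hne
          have hn3 : 3 ≤ n := by omega
          nlinarith only [hr', hx4, hk3, hn3]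
        subst hn2
        have hk : k = 3 := by (clear * - h0 hx4 hr'; omega)
        subst hk
        exact ⟨rfl, rfl⟩
      · exfalso
        have h3 : (n + 1) * j = n * k := by
          have : 2 * ((n + 1) * j) = 2 * (n * k) := by linarith only [hr']
          omega
        -- parity: `j`, `k` odd
        obtain ⟨a, ha⟩ : ∃ a, j = 2 * a + 1 := ⟨j / 2, by omega⟩
        obtain ⟨b, hb⟩ : ∃ b, k = 2 * b + 1 := ⟨k / 2, by omega⟩
        subst ha hb
        have h5 : 2 * ((n + 1) * a) + n + 1 = 2 * (n * b) + n := by linarith only [hr']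
        omega
    · exfalso
      have hr' : (n + 1) * x = n * (2 * (if m % 2 = 0 then m - 1 else m)) := hr
      rw [if_neg (by omega)] at hr'
      rcases hx' with ⟨hx3, hx4, hx5⟩ | ⟨j, rfl, hj, hj2⟩
      · have h3 : (n + 1) * x ≤ (n + 1) * m := Nat.mul_le_mul_left _ hx4
        nlinarith only [hm, hN, hr', h3]
      · have h3 : (n + 1) * j = n * m := by
          have : 2 * ((n + 1) * j) = 2 * (n * m) := by linarith only [hr']
          omega
        obtain ⟨a, ha⟩ : ∃ a, j = 2 * a + 1 := ⟨j / 2, by omega⟩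
        obtain ⟨b, hb⟩ : ∃ b, m = 2 * b + 1 := ⟨m / 2, by omega⟩
        subst ha hb
        have h5 : 2 * ((n + 1) * a) + n + 1 = 2 * (n * b) + n := by linarith only [hr']
        omega
  case oplus m q =>
    obtain ⟨hm, -⟩ := hg
    have h1' : 2 * (m * (m - 1)) ≤ ρ * (2 * (m - 1)) := h1
    obtain ⟨k, rfl⟩ : ∃ k, m = k + 1 := ⟨m - 1, by omega⟩
    rw [Nat.add_sub_cancel] at h1'
    have h3 : k + 1 ≤ ρ := by
      have : (2 * k) * (k + 1) ≤ (2 * k) * ρ := by linarith only [h1']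
      exact Nat.le_of_mul_le_mul_left this (by omega)
    obtain ⟨-, -, h4⟩ : 1 ≤ x ∧ x ≤ 2 * (k + 1 - 1) ∧ (2 ∣ x ∨ x = k + 1) := hx
    have hr' : N * x = (N - 1) * (2 * (k + 1 - 1)) := hr
    rw [Nat.add_sub_cancel] at hr'
    rcases h4 with ⟨i, rfl⟩ | rfl
    · have h4 : N * i = (N - 1) * k := by
        have : 2 * (N * i) = 2 * ((N - 1) * k) := by linarith only [hr']
        omega
      have h5 := eq_of_dvd hN (by omega) (dvdA (by omega) h4) (by omega)
      exact ⟨by omega, by omega⟩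
    · obtain ⟨n, rfl⟩ : ∃ n, N = n + 1 := ⟨N - 1, by omega⟩
      rw [Nat.add_sub_cancel] at hr'
      have hn2 : n = 2 := by
        by_contra hne
        have hn3 : 3 ≤ n := by omega
        nlinarith only [hm, hr', hn3]
      subst hn2
      exact ⟨by (clear * - hr'; omega), by omega⟩
  case ominus m q =>
    obtain ⟨hm, -⟩ := hg
    have h1' : 2 * (m * (m - 1)) ≤ ρ * (2 * m) := h1
    have h3 : m - 1 ≤ ρ := by
      have : (2 * m) * (m - 1) ≤ (2 * m) * ρ := by linarith only [h1']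
      exact Nat.le_of_mul_le_mul_left this (by omega)
    obtain ⟨-, -, i, rfl⟩ : 1 ≤ x ∧ x ≤ 2 * m ∧ 2 ∣ x := hx
    have hr' : N * (2 * i) = (N - 1) * (2 * m) := hr
    have h4 : N * i = (N - 1) * m := by
      have : 2 * (N * i) = 2 * ((N - 1) * m) := by linarith only [hr']
      omega
    have h5 := eq_of_dvd hN (by omega) (dvdA (by omega) h4) (by omega)
    exact ⟨h5, by omega⟩
  case g2 q =>
    exfalso
    have h3 : N ∣ 6 := hd
    have h4 : N * x = (N - 1) * 6 := hr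
    have h5 : x ∈ [2, 6] := hx
    have h6 := Nat.le_of_dvd (by norm_num) h3
    revert h5 h4 h3
    interval_cases N <;> intro h3 h4 h5 <;> simp only [List.mem_cons, List.not_mem_nil, or_false] at h5 <;> (clear * - h4 h5 h3; omega)
  case f4 q =>
    have h3 : N ∣ 12 := hd
    have h4 : N * x = (N - 1) * 12 := hr
    have h5 : x ∈ [2, 6, 8, 12] := hx
    have h1' : 2 * 24 ≤ ρ * 12 := h1
    have h6 := Nat.le_of_dvd (by norm_num) h3
    revert h5 h4 h3
    show _ → _ → _ → N = 3 ∧ ρ = 4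
    interval_cases N <;> intro h3 h4 h5 <;> simp only [List.mem_cons, List.not_mem_nil, or_false] at h5 <;> (clear * - h1' hρ h4 h5 h3; omega)
  case e6 q =>
    exfalso
    have h3 : N ∣ 12 := hd
    have h4 : N * x = (N - 1) * 12 := hr
    have h5 : x ∈ [2, 5, 6, 8, 9, 12] := hx
    have h1' : 2 * 36 ≤ ρ * 12 := h1
    have h6 := Nat.le_of_dvd (by norm_num) h3
    revert h5 h4 h3
    interval_cases N <;> intro h3 h4 h5 <;> simp only [List.mem_cons, List.not_mem_nil, or_false] at h5 <;> (clear * - h1' hρ h3 h4 h5; omega)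
  case e7 q =>
    exfalso
    have h3 : N ∣ 18 := hd
    have h4 : N * x = (N - 1) * 18 := hr
    have h5 : x ∈ [2, 6, 8, 10, 12, 14, 18] := hx
    have h1' : 2 * 63 ≤ ρ * 18 := h1
    have h6 := Nat.le_of_dvd (by norm_num) h3
    revert h5 h4 h3
    interval_cases N <;> intro h3 h4 h5 <;> simp only [List.mem_cons, List.not_mem_nil, or_false] at h5 <;> (clear * - h1' hρ h4 h5 h3; omega)
  case e8 q =>
    exfalso
    have h3 : N ∣ 30 := hd
    have h4 : N * x = (N - 1) * 30 := hr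
    have h5 : x ∈ [2, 8, 12, 14, 18, 20, 24, 30] := hx
    have h1' : 2 * 120 ≤ ρ * 30 := h1
    have h6 := Nat.le_of_dvd (by norm_num) h3
    revert h5 h4 h3
    interval_cases N <;> intro h3 h4 h5 <;> simp only [List.mem_cons, List.not_mem_nil, or_false] at h5 <;> (clear * - h1' hρ h3 h4 h5; omega)
  case te6 q =>
    have h3 : N ∣ 18 := hd
    have h4 : N * x = (N - 1) * 18 := hr
    have h5 : x ∈ [2, 10, 6, 8, 18, 12] := hx
    have h1' : 2 * 36 ≤ ρ * 18 := h1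
    have h6 := Nat.le_of_dvd (by norm_num) h3
    revert h5 h4 h3
    show _ → _ → _ → N = 3 ∧ ρ = 4
    interval_cases N <;> intro h3 h4 h5 <;> simp only [List.mem_cons, List.not_mem_nil, or_false] at h5 <;> (clear * - h1' hρ h3 h4 h5; omega)
  case td4 q =>
    exfalso
    have h3 : N ∣ 12 := hd
    have h4 : N * x = (N - 1) * 12 := hr
    have h5 : x ∈ [2, 6, 12] := hx
    have h6 := Nat.le_of_dvd (by norm_num) h3
    revert h5 h4 h3
    interval_cases N <;> intro h3 h4 h5 <;> simp only [List.mem_cons, List.not_mem_nil, or_false] at h5 <;> (clear * - h4 h5 h3; omega)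
  case sz q =>
    exfalso
    have h3 : N ∣ 4 := hd
    have h4 : N * x = (N - 1) * 4 := hr
    have h5 : x ∈ [1, 4] := hx
    have h6 := Nat.le_of_dvd (by norm_num) h3
    revert h5 h4 h3
    interval_cases N <;> intro h3 h4 h5 <;> simp only [List.mem_cons, List.not_mem_nil, or_false] at h5 <;> (clear * - h3 h4 h5; omega)
  case ree q =>
    exfalso
    have h3 : N ∣ 6 := hd
    have h4 : N * x = (N - 1) * 6 := hr
    have h5 : x ∈ [1, 6] := hx
    have h6 := Nat.le_of_dvd (by norm_num) h3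
    revert h5 h4 h3
    interval_cases N <;> intro h3 h4 h5 <;> simp only [List.mem_cons, List.not_mem_nil, or_false] at h5 <;> (clear * - h4 h5 h3; omega)
  case tf4 q =>
    exfalso
    have h3 : N ∣ 12 := hd
    have h4 : N * x = (N - 1) * 12 := hr
    have h5 : x ∈ [1, 6, 4, 12] := hx
    have h6 := Nat.le_of_dvd (by norm_num) h3
    revert h5 h4 h3
    interval_cases N <;> intro h3 h4 h5 <;> simp only [List.mem_cons, List.not_mem_nil, or_false] at h5 <;> (clear * - h4 h5 h3; omega)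
  all_goals exact absurd hch not_false

end Cfsg.Agent.H264.FKS
end

-- part: H264/FKS/ElimB
section
/-!
# Comparison of exponents: elimination for the unitary groups (helper264)
-/

set_option autoImplicit false

namespace Cfsg.Agent.H264.FKS

open Cfsg.Agent.OrdDiv Cfsg.Agent.H436 Cfsg.Agent.H915.GN Cfsg.Agent.H264.GN

/-- survivors for the ratio `N : N - 2` -/
def OutB (N ρ : ℕ) : Grp → Prop
  | .psu m _ => m = N ∨ (m = N + 1 ∧ ρ = N + 1)
  | _ => False

theorem ratioB {N M x : ℕ} (hN : 5 ≤ N) (hx1 : 1 ≤ x) (hx : x ≤ M) (h : (N - 2) * M ∣ N * x) :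
    N * x = (N - 2) * M := by
  obtain ⟨k, hk⟩ := h
  obtain ⟨n, rfl⟩ : ∃ n, N = n + 2 := ⟨N - 2, by omega⟩
  rw [Nat.add_sub_cancel] at hk ⊢
  rcases Nat.lt_or_ge k 2 with h2 | h2
  · interval_cases k
    · rw [mul_zero] at hk
      have : 0 < (n + 2) * x := by positivity
      omega
    · rw [mul_one] at hk
      exact hk
  · exfalso
    have h3 : n * M * 2 ≤ n * M * k := Nat.mul_le_mul_left _ h2
    have h4 : (n + 2) * x ≤ (n + 2) * M := Nat.mul_le_mul_left _ hx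
    have h5 : (n + 2) * M < n * M * 2 := by nlinarith only [hx1, hN, h4]
    omega

theorem cop_two {N : ℕ} (ho : N % 2 = 1) : Nat.Coprime N 2 := by
  rw [Nat.coprime_comm]
  exact (Nat.Prime.coprime_iff_not_dvd Nat.prime_two).2 (by omega)

theorem dvdB {N M x : ℕ} (hN : 2 ≤ N) (ho : N % 2 = 1) (h : N * x = (N - 2) * M) : N ∣ M := by
  have h1 : N ∣ (N - 2) * M := ⟨x, h.symm⟩
  refine Nat.Coprime.dvd_of_dvd_mul_left ?_ h1
  obtain ⟨n, rfl⟩ : ∃ n, N = n + 2 := ⟨N - 2, by omega⟩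
  rw [Nat.add_sub_cancel, Nat.add_comm, Nat.coprime_add_self_left]
  exact (cop_two (by omega)).symm

theorem dvd_of_two {N m : ℕ} (ho : N % 2 = 1) (h : N ∣ 2 * m) : N ∣ m :=
  (cop_two ho).dvd_of_dvd_mul_left h

theorem four_half (m : ℕ) : 4 * (m * (m - 1) / 2) = 2 * (m * (m - 1)) := by
  have := half m
  omega

theorem caseB {p N ρ : ℕ} (hN : 5 ≤ N) (ho : N % 2 = 1) (hρ : ρ ≤ N + 1) {g : Grp} (hg : Cond g)
    (hch : HasChar p g) (h1 : 4 * ag g ≤ ρ * Mg g) (hle : ∀ x, Xg g x → 1 ≤ x ∧ x ≤ Mg g)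
    (h2 : ∃ x, Xg g x ∧ (N - 2) * Mg g ∣ N * x) : OutB N ρ g := by
  obtain ⟨x, hx, hxd⟩ := h2
  obtain ⟨hx1, hx2⟩ := hle x hx
  have hr := ratioB hN hx1 hx2 hxd
  have hd := dvdB (by omega) ho hr
  cases g
  case psl m q =>
    exfalso
    obtain ⟨hm, -, -⟩ := hg
    have h1' : 4 * (m * (m - 1) / 2) ≤ ρ * m := h1
    rw [four_half] at h1'
    have h3 : 2 * (m - 1) ≤ ρ := by
      have : m * (2 * (m - 1)) ≤ m * ρ := by linarith only [h1']
      exact Nat.le_of_mul_le_mul_left this (by omega)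
    have h4 : N ≤ m := Nat.le_of_dvd (by omega) hd
    omega
  case psp m q =>
    exfalso
    obtain ⟨hm, -, -⟩ := hg
    have h1' : 4 * m ^ 2 ≤ ρ * (2 * m) := h1
    have h3 : 2 * m ≤ ρ := by
      have : (2 * m) * (2 * m) ≤ (2 * m) * ρ := by linarith only [h1']
      exact Nat.le_of_mul_le_mul_left this (by omega)
    have h4 : N ≤ m := Nat.le_of_dvd (by omega) (dvd_of_two ho hd)
    omega
  case oodd m q =>
    exfalso
    obtain ⟨hm, -, -⟩ := hg
    have h1' : 4 * m ^ 2 ≤ ρ * (2 * m) := h1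
    have h3 : 2 * m ≤ ρ := by
      have : (2 * m) * (2 * m) ≤ (2 * m) * ρ := by linarith only [h1']
      exact Nat.le_of_mul_le_mul_left this (by omega)
    have h4 : N ≤ m := Nat.le_of_dvd (by omega) (dvd_of_two ho hd)
    omega
  case psu m q =>
    obtain ⟨hm, -, -⟩ := hg
    have h1' : 4 * (m * (m - 1) / 2) ≤ ρ * (2 * (if m % 2 = 0 then m - 1 else m)) := h1
    have hd' : N ∣ 2 * (if m % 2 = 0 then m - 1 else m) := hd
    have hd2 := dvd_of_two ho hd'
    rw [four_half] at h1'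
    rcases Nat.mod_two_eq_zero_or_one m with h0 | h0
    · rw [if_pos h0] at h1' hd2
      right
      have h3 : m ≤ ρ := by
        have : (2 * (m - 1)) * m ≤ (2 * (m - 1)) * ρ := by linarith only [h1']
        exact Nat.le_of_mul_le_mul_left this (by omega)
      have h4 : N ≤ m - 1 := Nat.le_of_dvd (by omega) hd2
      exact ⟨by omega, by omega⟩
    · rw [if_neg (by omega)] at h1' hd2
      left
      have h3 : m - 1 ≤ ρ := by
        have : (2 * m) * (m - 1) ≤ (2 * m) * ρ := by linarith only [h1']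
        exact Nat.le_of_mul_le_mul_left this (by omega)
      exact eq_of_dvd (by omega) (by omega) hd2 (by omega)
  case oplus m q =>
    exfalso
    obtain ⟨hm, -⟩ := hg
    have h1' : 4 * (m * (m - 1)) ≤ ρ * (2 * (m - 1)) := h1
    have h3 : 2 * m ≤ ρ := by
      have : (2 * (m - 1)) * (2 * m) ≤ (2 * (m - 1)) * ρ := by linarith only [h1']
      exact Nat.le_of_mul_le_mul_left this (by omega)
    have h4 : N ≤ m - 1 := Nat.le_of_dvd (by omega) (dvd_of_two ho hd)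
    omega
  case ominus m q =>
    exfalso
    obtain ⟨hm, -⟩ := hg
    have h1' : 4 * (m * (m - 1)) ≤ ρ * (2 * m) := h1
    have h3 : 2 * (m - 1) ≤ ρ := by
      have : (2 * m) * (2 * (m - 1)) ≤ (2 * m) * ρ := by linarith only [h1']
      exact Nat.le_of_mul_le_mul_left this (by omega)
    have h4 : N ≤ m := Nat.le_of_dvd (by omega) (dvd_of_two ho hd)
    omega
  case g2 q =>
    exfalso
    have h3 : N ∣ 6 := hd
    have h6 := Nat.le_of_dvd (by norm_num) h3
    revert h3 ho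
    interval_cases N <;> intro ho h3 <;> omega
  case f4 q =>
    exfalso
    have h3 : N ∣ 12 := hd
    have h6 := Nat.le_of_dvd (by norm_num) h3
    revert h3 ho
    interval_cases N <;> intro ho h3 <;> omega
  case e6 q =>
    exfalso
    have h3 : N ∣ 12 := hd
    have h6 := Nat.le_of_dvd (by norm_num) h3
    revert h3 ho
    interval_cases N <;> intro ho h3 <;> omega
  case e7 q =>
    exfalso
    have h3 : N ∣ 18 := hd
    have h1' : 4 * 63 ≤ ρ * 18 := h1
    have h6 := Nat.le_of_dvd (by norm_num) h3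
    revert h3 ho
    interval_cases N <;> intro ho h3 <;> (clear * - h1' hρ h3 ho; omega)
  case e8 q =>
    exfalso
    have h3 : N ∣ 30 := hd
    have h1' : 4 * 120 ≤ ρ * 30 := h1
    have h4 : N * x = (N - 2) * 30 := hr
    have h5 : x ∈ [2, 8, 12, 14, 18, 20, 24, 30] := hx
    have h6 := Nat.le_of_dvd (by norm_num) h3
    revert h5 h4 h3 ho
    interval_cases N <;> intro ho h3 h4 h5 <;> simp only [List.mem_cons, List.not_mem_nil, or_false] at h5 <;> (clear * - h1' hρ h4 h5 ho h3; omega)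
  case te6 q =>
    exfalso
    have h3 : N ∣ 18 := hd
    have h4 : N * x = (N - 2) * 18 := hr
    have h5 : x ∈ [2, 10, 6, 8, 18, 12] := hx
    have h6 := Nat.le_of_dvd (by norm_num) h3
    revert h5 h4 h3 ho
    interval_cases N <;> intro ho h3 h4 h5 <;> simp only [List.mem_cons, List.not_mem_nil, or_false] at h5 <;> (clear * - h3 ho h4 h5; omega)
  case td4 q =>
    exfalso
    have h3 : N ∣ 12 := hd
    have h6 := Nat.le_of_dvd (by norm_num) h3
    revert h3 ho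
    interval_cases N <;> intro ho h3 <;> omega
  case sz q =>
    exfalso
    have h3 : N ∣ 4 := hd
    have h6 := Nat.le_of_dvd (by norm_num) h3
    omega
  case ree q =>
    exfalso
    have h3 : N ∣ 6 := hd
    have h6 := Nat.le_of_dvd (by norm_num) h3
    revert h3 ho
    interval_cases N <;> intro ho h3 <;> omega
  case tf4 q =>
    exfalso
    have h3 : N ∣ 12 := hd
    have h6 := Nat.le_of_dvd (by norm_num) h3
    revert h3 ho
    interval_cases N <;> intro ho h3 <;> omega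
  all_goals exact absurd hch not_false

end Cfsg.Agent.H264.FKS
end

-- part: H264/FKS/CharP
section
/-!
# Simple groups of Lie type in characteristic `p` whose order divides the order of a classical group over `p^f`
and is divisible by its largest primitive primes (helper264)

`charp_psl`, `charp_psp`, `charp_oodd`, `charp_ominus`, `charp_oplus`, `charp_psu`, `charp_psu4`.
-/

set_option autoImplicit false

namespace Cfsg.Agent.H264.FKS

open Cfsg.Agent.OrdDiv Cfsg.Agent.H436 Cfsg.Agent.H915.GN Cfsg.Agent.H264.GN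

variable {p f c : ℕ} {g : Grp}

/-- `s ∤ q^j + 1` if the order `e` of `q` modulo `s` is odd, `e ≥ 2` -/
theorem not_dvd_add_odd {q e s : ℕ} (hs : Prim q e s) (he : e % 2 = 1) (he3 : 2 ≤ e) (j : ℕ) : ¬ s ∣ q ^ j + 1 := by
  intro h
  have h1 : s ∣ q ^ (2 * j) - 1 := h.trans (add_dvd q j)
  rw [hs.dvd_iff] at h1
  have h2 : e ∣ j := dvd_of_two he h1
  have h3 : s ∣ q ^ j - 1 := hs.dvd h2
  have hq : 1 ≤ q := by
    rcases Nat.eq_zero_or_pos q with rfl | h5
    · exact absurd (dvd_zero s) hs.not_dvd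
    · exact h5
  have h4 : 1 ≤ q ^ j := Nat.one_le_pow _ _ hq
  have h5 := Nat.dvd_sub h h3
  rw [show q ^ j + 1 - (q ^ j - 1) = 2 by omega] at h5
  have h6 := lt_of_prim hs
  have h7 := Nat.le_of_dvd (by norm_num) h5
  omega

theorem hex5 (hg : Cond g) (hch : HasChar p g) (hM : Mg g = 6) (hX : Xg g 5) (ha : ag g ≤ 10) : False := by
  cases g
  case psl m q =>
    have hM' : m = 6 := hM
    subst hM'
    have ha' : 6 * (6 - 1) / 2 ≤ 10 := ha
    norm_num at ha'
  case psp m q =>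
    have hX' : 1 ≤ 5 ∧ 5 ≤ 2 * m ∧ 2 ∣ 5 := hX
    omega
  case oodd m q =>
    have hX' : 1 ≤ 5 ∧ 5 ≤ 2 * m ∧ 2 ∣ 5 := hX
    omega
  case psu m q =>
    have hX' : XU m 5 := hX
    have := (XU_le hX').2.2
    omega
  case oplus m q =>
    have hM' : 2 * (m - 1) = 6 := hM
    have hX' : 1 ≤ 5 ∧ 5 ≤ 2 * (m - 1) ∧ (2 ∣ 5 ∨ 5 = m) := hX
    omega
  case ominus m q =>
    have hX' : 1 ≤ 5 ∧ 5 ≤ 2 * m ∧ 2 ∣ 5 := hX
    omega
  case g2 q =>
    have hX' : 5 ∈ [2, 6] := hX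
    exact absurd hX' (by decide)
  case f4 q =>
    have h : (12 : ℕ) = 6 := hM
    omega
  case e6 q =>
    have h : (12 : ℕ) = 6 := hM
    omega
  case e7 q =>
    have h : (18 : ℕ) = 6 := hM
    omega
  case e8 q =>
    have h : (30 : ℕ) = 6 := hM
    omega
  case te6 q =>
    have h : (18 : ℕ) = 6 := hM
    omega
  case td4 q =>
    have h : (12 : ℕ) = 6 := hM
    omega
  case sz q =>
    have h : (4 : ℕ) = 6 := hM
    omega
  case ree q =>
    have hX' : 5 ∈ [1, 6] := hX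
    exact absurd hX' (by decide)
  case tf4 q =>
    have h : (12 : ℕ) = 6 := hM
    omega
  all_goals exact absurd hch not_false

theorem two_le_Mg (hg : Cond g) (hch : HasChar p g) : 2 ≤ Mg g := by
  cases g
  case psl m q =>
    obtain ⟨hm, -, -⟩ := hg
    exact hm
  case psp m q =>
    obtain ⟨hm, -, -⟩ := hg
    show 2 ≤ 2 * m
    omega
  case psu m q =>
    obtain ⟨hm, -, -⟩ := hg
    show 2 ≤ 2 * (if m % 2 = 0 then m - 1 else m)
    split_ifs <;> omega
  case oodd m q =>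
    obtain ⟨hm, -, -⟩ := hg
    show 2 ≤ 2 * m
    omega
  case oplus m q =>
    obtain ⟨hm, -⟩ := hg
    show 2 ≤ 2 * (m - 1)
    omega
  case ominus m q =>
    obtain ⟨hm, -⟩ := hg
    show 2 ≤ 2 * m
    omega
  case g2 q => exact (by norm_num : 2 ≤ 6)
  case f4 q => exact (by norm_num : 2 ≤ 12)
  case e6 q => exact (by norm_num : 2 ≤ 12)
  case e7 q => exact (by norm_num : 2 ≤ 18)
  case e8 q => exact (by norm_num : 2 ≤ 30)
  case te6 q => exact (by norm_num : 2 ≤ 18)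
  case td4 q => exact (by norm_num : 2 ≤ 12)
  case sz q => exact (by norm_num : 2 ≤ 4)
  case ree q => exact (by norm_num : 2 ≤ 6)
  case tf4 q => exact (by norm_num : 2 ≤ 12)
  all_goals exact absurd hch not_false

/-- all primes `s` with `q = p^f` of order `e` modulo `s`, which are larger than the exponent of the field of the
group `g`, divide `c` -/
def HS (p f e : ℕ) (g : Grp) (c : ℕ) : Prop :=
  ∀ s, Prim (p ^ f) e s → (∀ f₁, fld g = p ^ f₁ → f₁ < s) → s ∣ c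

theorem HS.mem {e f₁ s : ℕ} (h : HS p f e g c) (hp : p.Prime) (hfl : fld g = p ^ f₁) (hs : Prim (p ^ f) e s)
    (hlt : f₁ < s) : s ∣ c :=
  h s hs fun f₂ h2 => by
    rw [hfl] at h2
    rwa [← Nat.pow_right_injective hp.two_le h2]

theorem HS.big {e f₁ s : ℕ} (h : HS p f e g c) (hp : p.Prime) (hf : 1 ≤ f) (hfl : fld g = p ^ f₁)
    (hle : f₁ ≤ f * e) (hs : Prim p (f * e) s) : s ∣ c :=
  h.mem hp hfl (prim_pow hf hs) (lt_of_le_of_lt hle (lt_of_prim hs))

/-- the a-priori bound for the field exponent -/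
theorem f1_le {f₁ : ℕ} (hp : p.Prime) (hf₁ : 1 ≤ f₁) {XT X Y : ℕ → Prop} {MT aT M a : ℕ}
    (hT : TD p f c XT MT aT) (hK : KD p f₁ c X Y M a) (hY : Y M) (hM : 2 ≤ M) (h4 : 3 ≤ f * MT) :
    f₁ ≤ f * MT := by
  by_cases h6 : p = 2 ∧ f₁ * M = 6
  · have : f₁ * 2 ≤ 6 := h6.2 ▸ Nat.mul_le_mul_left _ hM
    omega
  · rcases Nat.lt_or_ge (f₁ * M) 3 with h3 | h3
    · have : f₁ * 2 ≤ f₁ * M := Nat.mul_le_mul_left _ hM
      omega
    · obtain ⟨t, ht⟩ := exists_prim hp.two_le h3 h6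
      obtain ⟨i, hi, hi2⟩ := hT.exp ht (hK.has hY h3 ht)
      have hi3 := hT.le hi
      have h5 : 0 < f := by
        rcases Nat.eq_zero_or_pos f with rfl | h
        · simp at h4
        · exact h
      have h2 : f₁ * M ≤ f * MT :=
        (Nat.le_of_dvd (Nat.mul_pos h5 (by omega)) hi2).trans (Nat.mul_le_mul_left _ hi3.2)
      have : f₁ * 2 ≤ f₁ * M := Nat.mul_le_mul_left _ hM
      omega

theorem f1_le' {f₁ e N M : ℕ} (hM : 2 ≤ M) (h1 : f₁ * M = f * N) (he : N ≤ 2 * e) : f₁ ≤ f * e := by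
  have h2 : f₁ * 2 ≤ f₁ * M := Nat.mul_le_mul_left _ hM
  have h3 : f * N ≤ f * (2 * e) := Nat.mul_le_mul_left _ he
  have h4 : f * (2 * e) = 2 * (f * e) := by ring
  omega

/-- `Ω^-_{2n}(q₀)`, `n` odd, has no prime divisor of order `n` modulo `q₀` -/
theorem not_dvd_ominus_odd {q₀ n s : ℕ} (hs : Prim q₀ n s) (hn : n % 2 = 1) (hn3 : 3 ≤ n) {a : ℕ} :
    ¬ s ∣ q₀ ^ a * ((q₀ ^ n + 1) * prB q₀ (n - 1)) := by
  intro h
  rcases hs.prime.dvd_mul.1 h with h1 | h1
  · exact hs.not_dvd_pow _ h1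
  rcases hs.prime.dvd_mul.1 h1 with h1 | h1
  · exact not_dvd_add_odd hs hn (by omega) n h1
  · rw [prB_eq, Prime.dvd_finsetProd_iff hs.prime.prime] at h1
    obtain ⟨i, hi, hd⟩ := h1
    rw [Finset.mem_range] at hi
    rw [hs.dvd_iff] at hd
    have := Nat.le_of_dvd (by omega) (dvd_of_two hn hd)
    omega

/-- **`T = PSL_n(q)`, `n ≥ 4`.** -/
theorem charp_psl (hp : p.Prime) (hf : 1 ≤ f) {n : ℕ} (hn : 4 ≤ n) (h42 : ¬ (n = 4 ∧ p ^ f = 2))
    (hex1 : ¬ (p = 2 ∧ f * n = 6)) (hex2 : ¬ (p = 2 ∧ f * (n - 1) = 6)) (hg : Cond g) (hch : HasChar p g)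
    (hc : den g * c = num g) (hdvd : c ∣ glN n (p ^ f)) (hs1 : HS p f n g c) (hs2 : HS p f (n - 1) g c) :
    g = .psl n (p ^ f) ∨ ∃ f₁, 2 * f₁ = f ∧ n % 2 = 0 ∧ g = .ominus n (p ^ f₁) := by
  obtain ⟨f₁, hf₁, hfl, hK, hY⟩ := kd_all hp hg hch hc
  have hT := td_psl hp hf hdvd
  have hfn : 1 * n ≤ f * n := Nat.mul_le_mul_right _ hf
  have hfn' : 1 * (n - 1) ≤ f * (n - 1) := Nat.mul_le_mul_right _ hf
  have hM2 := two_le_Mg hg hch
  have hb := f1_le hp hf₁ hT hK hY hM2 (by omega)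
  obtain ⟨h1, h2, h3, h4⟩ := comp hp hf hf₁ hT hK (by omega) hex1 (fun s hs => hs1.big hp hf hfl hb hs) hY (by
    intro hp2 h6 h5
    have hf1 : f = 1 := by nlinarith only [hf, hn, h5]
    subst hf1
    have hn5 : n = 5 := by
      rcases Nat.lt_or_ge n 5 with h | h
      · exact absurd ⟨by omega, by rw [hp2, pow_one]⟩ h42
      · omega
    subst hn5
    obtain ⟨s, hs⟩ := exists_prim hp.two_le (e := 5) (by norm_num) (by omega)
    obtain ⟨x, hx, hx2⟩ := hK.exp hs (hs1.big hp hf hfl hb (by rwa [one_mul]))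
    have hx3 := hK.le hx
    have h7 : f₁ * x ≤ 6 := h6 ▸ Nat.mul_le_mul_left _ hx3.2
    have h8 : 0 < f₁ * x := Nat.mul_pos (by omega) (by omega)
    have h9 : f₁ * x = 5 := by omega
    have h10 : f₁ = 1 := by
      have h11 : f₁ ∣ 5 := ⟨x, h9.symm⟩
      have h12 : f₁ ∣ 6 := ⟨Mg g, h6.symm⟩
      exact Nat.dvd_one.1 (Nat.dvd_sub h12 h11)
    subst h10
    rw [one_mul] at h9 h6
    subst h9
    have h13 := hT.pp hK.pp
    exact hex5 hg hch h6 hx (by norm_num at h13; omega))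
  have hh := half n
  have hA : 2 * ag g ≤ (n - 1) * Mg g := by
    have h5 : n * (2 * ag g) ≤ n * ((n - 1) * Mg g) := by
      calc n * (2 * ag g) = 2 * (ag g * n) := by ring
        _ ≤ 2 * (n * (n - 1) / 2 * Mg g) := Nat.mul_le_mul_left _ h2
        _ = (2 * (n * (n - 1) / 2)) * Mg g := by ring
        _ = n * (n - 1) * Mg g := by rw [← hh]
        _ = n * ((n - 1) * Mg g) := by ring
    exact Nat.le_of_mul_le_mul_left h5 (by omega)
  have hO := caseA (N := n) (ρ := n - 1) (by omega) (by omega) hg hch hA (fun x hx => hK.le hx)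
    (h3 (n - 1) (by omega) hex2 fun s hs => hs2.big hp hf hfl (f1_le' hM2 h1 (by omega)) hs)
  cases g
  case psl m q =>
    left
    obtain rfl : m = n := hO
    have hq : q = p ^ f₁ := hfl
    have h5 : f₁ * m = f * m := h1
    rw [hq, Nat.eq_of_mul_eq_mul_right (by omega) h5]
  case psp m q =>
    exfalso
    obtain ⟨h5, h6⟩ : m = n ∧ n ≤ n - 1 := hO
    omega
  case oodd m q =>
    exfalso
    obtain ⟨h5, h6⟩ : m = n ∧ n ≤ n - 1 := hO
    omega
  case psu m q =>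
    exfalso
    obtain ⟨h5, h6⟩ : m = 4 ∧ n = 3 := hO
    omega
  case oplus m q =>
    exfalso
    obtain ⟨h5, h6⟩ : m = n + 1 ∧ n - 1 = n + 1 := hO
    omega
  case ominus m q =>
    obtain ⟨rfl, -⟩ : m = n ∧ n - 1 ≤ n - 1 := hO
    have hq : q = p ^ f₁ := hfl
    have h5 : f₁ * (2 * m) = f * m := h1
    have h6 : 2 * f₁ = f := Nat.eq_of_mul_eq_mul_right (show 0 < m by omega) (by rw [← h5]; ring)
    right
    refine ⟨f₁, h6, ?_, by rw [hq]⟩
    by_contra hne
    have ho : m % 2 = 1 := by omega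
    have hfm : 1 * m ≤ f₁ * m := Nat.mul_le_mul_right _ hf₁
    obtain ⟨s, hs0⟩ := exists_prim (q := p) (e := f₁ * m) hp.two_le (by omega) (by
      rintro ⟨-, h7⟩
      have h8 : f₁ ≤ 1 := by
        by_contra h9
        have : 2 * m ≤ f₁ * m := Nat.mul_le_mul_right _ (by omega)
        omega
      obtain rfl : f₁ = 1 := by omega
      omega)
    have hs := prim_pow hf₁ hs0
    have hlt : f₁ < s := by
      have h8 := lt_of_prim hs0
      have h9 : f₁ * 1 ≤ f₁ * m := Nat.mul_le_mul_left _ (by omega)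
      omega
    have hs' : Prim (p ^ f) m s := by
      refine ⟨hs.prime, fun k => ?_, fun h => ?_⟩
      · rw [← h6, mul_comm 2 f₁, pow_mul, ← pow_mul, hs.dvd_iff]
        exact ⟨fun h => dvd_of_two ho h, fun h => h.mul_left _⟩
      · rw [← h6, mul_comm 2 f₁, pow_mul] at h
        exact hs.not_dvd_pow _ h
    have h7 : s ∣ den (.ominus m q) * c := (hs1.mem hp hfl hs' hlt).mul_left _
    rw [hc, hq] at h7
    exact not_dvd_ominus_odd hs ho (by omega) h7
  case f4 q =>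
    exfalso
    obtain ⟨h5, h6⟩ : n = 3 ∧ n - 1 = 4 := hO
    omega
  case te6 q =>
    exfalso
    obtain ⟨h5, h6⟩ : n = 3 ∧ n - 1 = 4 := hO
    omega
  all_goals exact absurd hO not_false

/-- **`T = PSp_2n(q)` or `Ω_{2n+1}(q)`, `n ≥ 3`.** -/
theorem charp_psp (hp : p.Prime) (hf : 1 ≤ f) {n : ℕ} (hn : 3 ≤ n)
    (hex1 : ¬ (p = 2 ∧ f * (2 * n) = 6)) (hex2 : ¬ (p = 2 ∧ f * (2 * (n - 1)) = 6)) (hg : Cond g) (hch : HasChar p g)
    (hc : den g * c = num g) (hdvd : c ∣ (p ^ f) ^ (n ^ 2) * prB (p ^ f) n)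
    (hs1 : HS p f (2 * n) g c) (hs2 : HS p f (2 * (n - 1)) g c) :
    g = .psp n (p ^ f) ∨ g = .oodd n (p ^ f) ∨ g = .psl n (p ^ (2 * f)) ∨ g = .ominus n (p ^ f) ∨
      (n = 3 ∧ g = .psu 4 (p ^ f)) := by
  obtain ⟨f₁, hf₁, hfl, hK, hY⟩ := kd_all hp hg hch hc
  have hT := td_psp hp hf hdvd
  have hfn : 1 * (2 * n) ≤ f * (2 * n) := Nat.mul_le_mul_right _ hf
  have hfn' : 1 * (2 * (n - 1)) ≤ f * (2 * (n - 1)) := Nat.mul_le_mul_right _ hf
  have hM2 := two_le_Mg hg hch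
  have hb := f1_le hp hf₁ hT hK hY hM2 (by omega)
  obtain ⟨h1, h2, h3, h4⟩ := comp hp hf hf₁ hT hK (by omega) hex1 (fun s hs => hs1.big hp hf hfl hb hs) hY (by
    intro hp2 h6 h5
    omega)
  have hA : 2 * ag g ≤ n * Mg g := by
    have h5 : n * (2 * ag g) ≤ n * (n * Mg g) := by
      calc n * (2 * ag g) = ag g * (2 * n) := by ring
        _ ≤ n ^ 2 * Mg g := h2
        _ = n * (n * Mg g) := by ring
    exact Nat.le_of_mul_le_mul_left h5 (by omega)
  have hO := caseA (N := n) (ρ := n) (by omega) (by omega) hg hch hA (fun x hx => hK.le hx) (by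
    obtain ⟨x, hx, hx2⟩ := h3 (2 * (n - 1)) (by omega) hex2 fun s hs => hs2.big hp hf hfl (f1_le' hM2 h1 (by omega)) hs
    refine ⟨x, hx, ?_⟩
    rw [mul_assoc, mul_assoc] at hx2
    exact Nat.dvd_of_mul_dvd_mul_left (by norm_num) hx2)
  cases g
  case psl m q =>
    obtain rfl : m = n := hO
    have hq : q = p ^ f₁ := hfl
    have h5 : f₁ * m = f * (2 * m) := h1
    have h6 : f₁ = 2 * f := Nat.eq_of_mul_eq_mul_right (show 0 < m by omega) (by rw [h5]; ring)
    exact Or.inr (Or.inr (Or.inl (by rw [hq, h6])))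
  case psp m q =>
    obtain ⟨rfl, -⟩ : m = n ∧ n ≤ n := hO
    have hq : q = p ^ f₁ := hfl
    have h5 : f₁ * (2 * m) = f * (2 * m) := h1
    exact Or.inl (by rw [hq, Nat.eq_of_mul_eq_mul_right (by omega) h5])
  case oodd m q =>
    obtain ⟨rfl, -⟩ : m = n ∧ n ≤ n := hO
    have hq : q = p ^ f₁ := hfl
    have h5 : f₁ * (2 * m) = f * (2 * m) := h1
    exact Or.inr (Or.inl (by rw [hq, Nat.eq_of_mul_eq_mul_right (by omega) h5]))
  case psu m q =>
    obtain ⟨rfl, h6⟩ : m = 4 ∧ n = 3 := hO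
    have hq : q = p ^ f₁ := hfl
    have h5 : f₁ * 6 = f * (2 * n) := h1
    exact Or.inr (Or.inr (Or.inr (Or.inr ⟨h6, by rw [hq, show f₁ = f by rw [h6] at h5; omega]⟩)))
  case oplus m q =>
    exfalso
    obtain ⟨h5, h6⟩ : m = n + 1 ∧ n = n + 1 := hO
    omega
  case ominus m q =>
    obtain ⟨rfl, -⟩ : m = n ∧ n - 1 ≤ n := hO
    have hq : q = p ^ f₁ := hfl
    have h5 : f₁ * (2 * m) = f * (2 * m) := h1
    exact Or.inr (Or.inr (Or.inr (Or.inl (by rw [hq, Nat.eq_of_mul_eq_mul_right (by omega) h5]))))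
  case f4 q =>
    exfalso
    obtain ⟨h5, h6⟩ : n = 3 ∧ n = 4 := hO
    omega
  case te6 q =>
    exfalso
    obtain ⟨h5, h6⟩ : n = 3 ∧ n = 4 := hO
    omega
  all_goals exact absurd hO not_false

/-- **`T = Ω^-_{2n}(q)`, `n ≥ 4`.** -/
theorem charp_ominus (hp : p.Prime) (hf : 1 ≤ f) {n : ℕ} (hn : 4 ≤ n)
    (hex2 : ¬ (p = 2 ∧ f * (2 * (n - 1)) = 6)) (hg : Cond g) (hch : HasChar p g)
    (hc : den g * c = num g)
    (hdvd : c ∣ (p ^ f) ^ (n * (n - 1)) * (((p ^ f) ^ n + 1) * prB (p ^ f) (n - 1)))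
    (hs1 : HS p f (2 * n) g c) (hs2 : HS p f (2 * (n - 1)) g c) :
    g = .ominus n (p ^ f) := by
  obtain ⟨f₁, hf₁, hfl, hK, hY⟩ := kd_all hp hg hch hc
  have hT := td_ominus hp hf (by omega) hdvd
  have hfn : 1 * (2 * n) ≤ f * (2 * n) := Nat.mul_le_mul_right _ hf
  have hfn' : 1 * (2 * (n - 1)) ≤ f * (2 * (n - 1)) := Nat.mul_le_mul_right _ hf
  have hM2 := two_le_Mg hg hch
  have hb := f1_le hp hf₁ hT hK hY hM2 (by omega)
  obtain ⟨h1, h2, h3, h4⟩ := comp hp hf hf₁ hT hK (by omega) (by omega) (fun s hs => hs1.big hp hf hfl hb hs) hY (by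
    intro hp2 h6 h5
    omega)
  have hA : 2 * ag g ≤ (n - 1) * Mg g := by
    have h5 : n * (2 * ag g) ≤ n * ((n - 1) * Mg g) := by
      calc n * (2 * ag g) = ag g * (2 * n) := by ring
        _ ≤ n * (n - 1) * Mg g := h2
        _ = n * ((n - 1) * Mg g) := by ring
    exact Nat.le_of_mul_le_mul_left h5 (by omega)
  have hO := caseA (N := n) (ρ := n - 1) (by omega) (by omega) hg hch hA (fun x hx => hK.le hx) (by
    obtain ⟨x, hx, hx2⟩ := h3 (2 * (n - 1)) (by omega) hex2 fun s hs => hs2.big hp hf hfl (f1_le' hM2 h1 (by omega)) hs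
    refine ⟨x, hx, ?_⟩
    rw [mul_assoc, mul_assoc] at hx2
    exact Nat.dvd_of_mul_dvd_mul_left (by norm_num) hx2)
  cases g
  case psl m q =>
    exfalso
    obtain rfl : m = n := hO
    have hq : q = p ^ f₁ := hfl
    have h5 : f₁ * m = f * (2 * m) := h1
    have h6 : f₁ = 2 * f := Nat.eq_of_mul_eq_mul_right (show 0 < m by omega) (by rw [h5]; ring)
    -- comparison of the sizes
    have hc' : Nat.gcd m (q - 1) * (q - 1) * c = glN m q := hc
    rw [hq, h6, glN_eq] at hc'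
    obtain ⟨Q, hQ⟩ : ∃ Q, Q = p ^ f := ⟨_, rfl⟩
    have hQ2 : 2 ≤ Q := hQ ▸ (hp.two_le).trans (Nat.le_self_pow (by omega) _)
    have hQQ : p ^ (2 * f) = Q ^ 2 := by rw [mul_comm, pow_mul, hQ]
    rw [hQQ] at hc'
    rw [← hQ] at hdvd
    have h7 : (Q ^ 2) ^ (m * (m - 1) / 2) = Q ^ (m * (m - 1)) := by
      rw [← pow_mul, ← half m]
    have h8 : ∏ j ∈ Finset.range m, ((Q ^ 2) ^ (j + 1) - 1) = prB Q (m - 1) * ((Q ^ m + 1) * (Q ^ m - 1)) := by
      obtain ⟨k, rfl⟩ : ∃ k, m = k + 1 := ⟨m - 1, by omega⟩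
      rw [Finset.prod_range_succ, Nat.add_sub_cancel, prB_eq]
      congr 1
      · refine Finset.prod_congr rfl fun i _ => ?_
        rw [← pow_mul]
      · have := Nat.sq_sub_sq (Q ^ (k + 1)) 1
        rw [one_pow] at this
        rw [← this, ← pow_mul, ← pow_mul, mul_comm]
    rw [h7, h8] at hc'
    obtain ⟨k, hk⟩ := hdvd
    have hc0 : 0 < c := by
      rcases Nat.eq_zero_or_pos c with rfl | h
      · exfalso
        rw [zero_mul] at hk
        have : 0 < Q ^ (m * (m - 1)) * ((Q ^ m + 1) * prB Q (m - 1)) := by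
          refine Nat.mul_pos (pow_pos (by omega) _) (Nat.mul_pos (by omega) ?_)
          rw [prB_eq]
          refine Finset.prod_pos fun i _ => ?_
          have : 1 < Q ^ (2 * (i + 1)) := Nat.one_lt_pow (by omega) (by omega)
          omega
        omega
      · exact h
    have h9 : c * (Nat.gcd m (Q ^ 2 - 1) * (Q ^ 2 - 1)) = c * (k * (Q ^ m - 1)) := by
      calc c * (Nat.gcd m (Q ^ 2 - 1) * (Q ^ 2 - 1)) = Nat.gcd m (Q ^ 2 - 1) * (Q ^ 2 - 1) * c := by ring
        _ = _ := hc'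
        _ = Q ^ (m * (m - 1)) * ((Q ^ m + 1) * prB Q (m - 1)) * (Q ^ m - 1) := by ring
        _ = c * k * (Q ^ m - 1) := by rw [hk]
        _ = c * (k * (Q ^ m - 1)) := by ring
    have h10 := Nat.eq_of_mul_eq_mul_left hc0 h9
    have hQ21 : 3 ≤ Q ^ 2 - 1 := by
      have : 2 ^ 2 ≤ Q ^ 2 := Nat.pow_le_pow_left hQ2 2
      omega
    have hg0 : 0 < Nat.gcd m (Q ^ 2 - 1) := Nat.gcd_pos_of_pos_left _ (by omega)
    have hk0 : 0 < k := by
      rcases Nat.eq_zero_or_pos k with rfl | h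
      · rw [zero_mul] at h10
        have : 0 < Nat.gcd m (Q ^ 2 - 1) * (Q ^ 2 - 1) := Nat.mul_pos hg0 (by omega)
        omega
      · exact h
    have h11 : Q ^ m - 1 ≤ m * (Q ^ 2 - 1) := by
      calc Q ^ m - 1 ≤ k * (Q ^ m - 1) := Nat.le_mul_of_pos_left _ hk0
        _ = _ := h10.symm
        _ ≤ m * (Q ^ 2 - 1) := Nat.mul_le_mul_right _ (Nat.gcd_le_left _ (by omega))
    -- `Q ^ m - 1 ≥ (Q ^ (m-2) + 1) (Q^2 - 1)`
    obtain ⟨j, rfl⟩ : ∃ j, m = j + 2 := ⟨m - 2, by omega⟩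
    have h12 : j + 2 ≤ Q ^ j := by
      have h13 : j + 2 ≤ 2 ^ j := by
        have : ∀ i, i + 2 + 2 ≤ 2 ^ (i + 2) := by
          intro i
          induction i with
          | zero => norm_num
          | succ i ih => rw [show i + 1 + 2 = (i + 2) + 1 by ring, pow_succ]; omega
        have := this (j - 2)
        rwa [show j - 2 + 2 = j by omega] at this
      exact h13.trans (Nat.pow_le_pow_left hQ2 j)
    have h14 : (j + 2) * (Q ^ 2 - 1) ≤ Q ^ j * (Q ^ 2 - 1) := Nat.mul_le_mul_right _ h12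
    have h15 : Q ^ j * (Q ^ 2 - 1) + Q ^ j = Q ^ (j + 2) := by
      rw [pow_add]
      have : Q ^ 2 - 1 + 1 = Q ^ 2 := by (clear * - hQ21; omega)
      calc Q ^ j * (Q ^ 2 - 1) + Q ^ j = Q ^ j * (Q ^ 2 - 1 + 1) := by ring
        _ = _ := by rw [this]
    omega
  case psp m q =>
    exfalso
    obtain ⟨h5, h6⟩ : m = n ∧ n ≤ n - 1 := hO
    omega
  case oodd m q =>
    exfalso
    obtain ⟨h5, h6⟩ : m = n ∧ n ≤ n - 1 := hO
    omega
  case psu m q =>
    exfalso
    obtain ⟨h5, h6⟩ : m = 4 ∧ n = 3 := hO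
    omega
  case oplus m q =>
    exfalso
    obtain ⟨h5, h6⟩ : m = n + 1 ∧ n - 1 = n + 1 := hO
    omega
  case ominus m q =>
    obtain ⟨rfl, -⟩ : m = n ∧ n - 1 ≤ n - 1 := hO
    have hq : q = p ^ f₁ := hfl
    have h5 : f₁ * (2 * m) = f * (2 * m) := h1
    rw [hq, Nat.eq_of_mul_eq_mul_right (by omega) h5]
  case f4 q =>
    exfalso
    obtain ⟨h5, h6⟩ : n = 3 ∧ n - 1 = 4 := hO
    omega
  case te6 q =>
    exfalso
    obtain ⟨h5, h6⟩ : n = 3 ∧ n - 1 = 4 := hO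
    omega
  all_goals exact absurd hO not_false

end Cfsg.Agent.H264.FKS
end
end

-- part: H264/FKS/Res
section
prune_inst 0x30002504240000000000000000001c22b0000000000b0000000000000c010c000000062002000000006400800040004000000000400000000a000000000000000002c2001210ad00100000000001100000000000000000000000000000000000000000000
set_option linter.all false
open scoped Cfsg.Agent.FastGrp

-- part: H264/FKS/CharP2
section
/-!
# Simple groups of Lie type in characteristic `p` whose order divides the order of a classical group over `p^f`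
and is divisible by its largest primitive primes: `Ω^+` and unitary groups (helper264)
-/

set_option autoImplicit false

namespace Cfsg.Agent.H264.FKS

open Cfsg.Agent.OrdDiv Cfsg.Agent.H436 Cfsg.Agent.H915.GN Cfsg.Agent.H264.GN

variable {p f c : ℕ} {g : Grp}

/-- a prime of odd order `e` modulo `q` does not divide `|GU_m(q)|` if no even `i ≤ m` is a multiple of `e` -/
theorem not_dvd_psu_odd {q e s m a : ℕ} (hs : Prim q e s) (he : e % 2 = 1) (he2 : 2 ≤ e)
    (h : ∀ i, 1 ≤ i → i ≤ m → 2 ∣ i → ¬ e ∣ i) : ¬ s ∣ q ^ a * prU q m := by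
  intro h1
  rcases hs.prime.dvd_mul.1 h1 with h2 | h2
  · exact hs.not_dvd_pow _ h2
  · unfold prU at h2
    rw [prod_list, Prime.dvd_finsetProd_iff hs.prime.prime] at h2
    obtain ⟨i, hi, hd⟩ := h2
    rw [Finset.mem_range] at hi
    split_ifs at hd with h3
    · exact not_dvd_add_odd hs he he2 _ hd
    · rw [hs.dvd_iff] at hd
      refine h (i + 1) (by omega) (by omega) ?_ hd
      by_contra h4
      apply h3
      rw [show i % 2 = 0 by omega]
      rfl

theorem not_dvd_prB_odd {q e s k a : ℕ} (hs : Prim q e s) (he : e % 2 = 1) (hk : k < e) :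
    ¬ s ∣ q ^ a * prB q k := by
  intro h1
  rcases hs.prime.dvd_mul.1 h1 with h2 | h2
  · exact hs.not_dvd_pow _ h2
  · rw [prB_eq, Prime.dvd_finsetProd_iff hs.prime.prime] at h2
    obtain ⟨i, hi, hd⟩ := h2
    rw [Finset.mem_range] at hi
    rw [hs.dvd_iff] at hd
    have := Nat.le_of_dvd (by omega) (dvd_of_two he hd)
    omega

theorem not_dvd_glN_odd {q e s k : ℕ} (hs : Prim q e s) (he : e % 2 = 1) (hk : k < e) :
    ¬ s ∣ glN k (q ^ 2) := by
  intro h1
  rw [glN_eq] at h1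
  rcases hs.prime.dvd_mul.1 h1 with h2 | h2
  · rw [← pow_mul] at h2
    exact hs.not_dvd_pow _ h2
  · rw [Prime.dvd_finsetProd_iff hs.prime.prime] at h2
    obtain ⟨i, hi, hd⟩ := h2
    rw [Finset.mem_range] at hi
    rw [← pow_mul, hs.dvd_iff] at hd
    have := Nat.le_of_dvd (by omega) (dvd_of_two he hd)
    omega

theorem f4_dvd {x : ℕ} (hx : 2 ≤ x) (h : (x - 1) * (x ^ 3 - 1) ∣ (x ^ 2 - 1) * (x ^ 4 - 1)) : False := by
  obtain ⟨y, rfl⟩ : ∃ y, x = y + 1 := ⟨x - 1, by omega⟩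
  have h1 : (y + 1) ^ 3 - 1 = y * ((y + 1) ^ 2 + (y + 1) + 1) := by
    have : (y + 1) ^ 3 = y * ((y + 1) ^ 2 + (y + 1) + 1) + 1 := by ring
    rw [this, Nat.add_sub_cancel]
  have h2 : (y + 1) ^ 2 - 1 = y * (y + 2) := by
    have : (y + 1) ^ 2 = y * (y + 2) + 1 := by ring
    rw [this, Nat.add_sub_cancel]
  have h4 : (y + 1) ^ 4 - 1 = y * ((y + 2) * ((y + 1) ^ 2 + 1)) := by
    have : (y + 1) ^ 4 = y * ((y + 2) * ((y + 1) ^ 2 + 1)) + 1 := by ring
    rw [this, Nat.add_sub_cancel]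
  rw [h1, h2, h4, Nat.add_sub_cancel] at h
  have h5 : y * y * ((y + 1) ^ 2 + (y + 1) + 1) ∣ y * y * ((y + 2) * ((y + 2) * ((y + 1) ^ 2 + 1))) := by
    obtain ⟨k, hk⟩ := h
    exact ⟨k, by linarith only [hk]⟩
  have h6 := Nat.dvd_of_mul_dvd_mul_left (show 0 < y * y by
    have : 1 ≤ y := by omega
    positivity) h5
  have h7 : (y + 2) * ((y + 2) * ((y + 1) ^ 2 + 1)) =
      ((y + 1) ^ 2 + (y + 1) + 1) * ((y + 1) ^ 2 + (y + 1)) + (y + 2) := by ring
  rw [h7] at h6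
  have h8 := (Nat.dvd_add_right (Dvd.intro _ rfl)).1 h6
  have h9 := Nat.le_of_dvd (by omega) h8
  linarith only [h2, h9]

theorem prim_four_three : Prim 4 3 7 := by
  refine ⟨by norm_num, fun k => ?_, by norm_num⟩
  constructor
  · intro h
    have h1 : 4 ^ k ≡ 1 [MOD 7] := ((Nat.modEq_iff_dvd' (Nat.one_le_pow _ _ (by norm_num))).2 h).symm
    have h2 : 4 ^ k % 7 = 4 ^ (k % 3) % 7 := by
      conv_lhs => rw [← Nat.div_add_mod k 3, pow_add, pow_mul, Nat.mul_mod, Nat.pow_mod]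
      norm_num
    have h3 : 4 ^ (k % 3) % 7 = 1 := by
      rw [← h2]
      exact h1
    have h4 : k % 3 < 3 := Nat.mod_lt _ (by norm_num)
    apply Nat.dvd_of_mod_eq_zero
    interval_cases h5 : k % 3
    · rfl
    · norm_num at h3
    · norm_num at h3
  · rintro ⟨m, rfl⟩
    rw [pow_mul]
    norm_num only []
    exact (Nat.modEq_iff_dvd' (Nat.one_le_pow _ _ (by norm_num))).1 (by
      have := Nat.ModEq.pow m (show 64 ≡ 1 [MOD 7] from rfl)
      rw [one_pow] at this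
      exact this.symm)

/-- A Zsigmondy prime of odd order divides the order of the group. -/
theorem ex_prim {e f₁ : ℕ} (hp : p.Prime) (hf : 1 ≤ f) (he : 3 ≤ e) (he2 : e % 2 = 1) (hc : den g * c = num g)
    (hfl : fld g = p ^ f₁) (hff : f₁ ≤ 2 * f) (hs : HS p f e g c) : ∃ s, Prim (p ^ f) e s ∧ s ∣ num g := by
  have h3 : f * 3 ≤ f * e := Nat.mul_le_mul_left _ he
  by_cases h6 : p = 2 ∧ f * e = 6
  · obtain ⟨rfl, h6⟩ := h6
    have h7 : f = 2 := by
      have : f ≤ 2 := by omega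
      interval_cases f <;> omega
    subst h7
    obtain rfl : e = 3 := by omega
    have h8 : Prim (2 ^ 2) 3 7 := by norm_num; exact prim_four_three
    refine ⟨7, h8, ?_⟩
    rw [← hc]
    exact (hs.mem hp hfl h8 (by omega)).mul_left _
  · obtain ⟨s, hs'⟩ := exists_prim hp.two_le (e := f * e) (by omega) h6
    refine ⟨s, prim_pow hf hs', ?_⟩
    rw [← hc]
    exact (hs.mem hp hfl (prim_pow hf hs') (by
      have := lt_of_prim hs'
      omega)).mul_left _

/-- **`T = Ω^+_{2n}(q)`, `n ≥ 4`.** -/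
theorem charp_oplus (hp : p.Prime) (hf : 1 ≤ f) {n : ℕ} (hn : 4 ≤ n)
    (hex1 : ¬ (p = 2 ∧ f * (2 * (n - 1)) = 6)) (hex2 : ¬ (p = 2 ∧ f * (2 * (n - 2)) = 6)) (hg : Cond g)
    (hch : HasChar p g) (hc : den g * c = num g)
    (hdvd : c ∣ (p ^ f) ^ (n * (n - 1)) * (((p ^ f) ^ n - 1) * prB (p ^ f) (n - 1)))
    (hs1 : HS p f (2 * (n - 1)) g c) (hs2 : HS p f (2 * (n - 2)) g c)
    (hs3 : HS p f n g c) (hs4 : HS p f (n - 1) g c) :
    g = .oplus n (p ^ f) ∨ (n % 2 = 0 ∧ (g = .psl (n - 1) (p ^ (2 * f)) ∨ g = .psp (n - 1) (p ^ f) ∨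
      g = .oodd (n - 1) (p ^ f))) := by
  obtain ⟨f₁, hf₁, hfl, hK, hY⟩ := kd_all hp hg hch hc
  have hT := td_oplus hp hf (by omega) hdvd
  have hfn : 1 * (2 * (n - 1)) ≤ f * (2 * (n - 1)) := Nat.mul_le_mul_right _ hf
  have hfn' : 1 * (2 * (n - 2)) ≤ f * (2 * (n - 2)) := Nat.mul_le_mul_right _ hf
  have hM2 := two_le_Mg hg hch
  have hb := f1_le hp hf₁ hT hK hY hM2 (by omega)
  obtain ⟨h1, h2, h3, h4⟩ := comp hp hf hf₁ hT hK (by omega) hex1 (fun s hs => hs1.big hp hf hfl hb hs) hY (by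
    intro hp2 h6 h5
    omega)
  have hA : 2 * ag g ≤ n * Mg g := by
    have h5 : (n - 1) * (2 * ag g) ≤ (n - 1) * (n * Mg g) := by
      calc (n - 1) * (2 * ag g) = ag g * (2 * (n - 1)) := by ring
        _ ≤ n * (n - 1) * Mg g := h2
        _ = (n - 1) * (n * Mg g) := by ring
    exact Nat.le_of_mul_le_mul_left h5 (by omega)
  have hO := caseA (N := n - 1) (ρ := n) (by omega) (by omega) hg hch hA (fun x hx => hK.le hx) (by
    obtain ⟨x, hx, hx2⟩ := h3 (2 * (n - 2)) (by omega) hex2 fun s hs => hs2.big hp hf hfl (f1_le' hM2 h1 (by omega)) hs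
    refine ⟨x, hx, ?_⟩
    rw [mul_assoc, mul_assoc] at hx2
    exact Nat.dvd_of_mul_dvd_mul_left (by norm_num) hx2)
  have hq2 : 2 ≤ p ^ f := (hp.two_le).trans (Nat.le_self_pow (by omega) _)
  cases g
  case psl m q =>
    obtain rfl : m = n - 1 := hO
    have hq : q = p ^ f₁ := hfl
    have h5 : f₁ * (n - 1) = f * (2 * (n - 1)) := h1
    have h6 : f₁ = 2 * f := Nat.eq_of_mul_eq_mul_right (show 0 < n - 1 by omega) (by rw [h5]; ring)
    rcases Nat.mod_two_eq_zero_or_one n with h0 | h0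
    · exact Or.inr ⟨h0, Or.inl (by rw [hq, h6])⟩
    · exfalso
      obtain ⟨s, hs, hs'⟩ := ex_prim hp hf (by omega) h0 hc hfl (by omega) hs3
      have h7 : s ∣ glN (n - 1) q := hs'
      rw [hq, h6, mul_comm 2 f, pow_mul] at h7
      exact not_dvd_glN_odd hs h0 (by omega) h7
  case psp m q =>
    obtain ⟨rfl, -⟩ : m = n - 1 ∧ n - 1 ≤ n := hO
    have hq : q = p ^ f₁ := hfl
    have h5 : f₁ * (2 * (n - 1)) = f * (2 * (n - 1)) := h1
    have h6 := Nat.eq_of_mul_eq_mul_right (by omega) h5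
    rcases Nat.mod_two_eq_zero_or_one n with h0 | h0
    · exact Or.inr ⟨h0, Or.inr (Or.inl (by rw [hq, h6]))⟩
    · exfalso
      obtain ⟨s, hs, hs'⟩ := ex_prim hp hf (by omega) h0 hc hfl (by omega) hs3
      have h7 : s ∣ q ^ ((n - 1) ^ 2) * prB q (n - 1) := hs'
      rw [hq, h6] at h7
      exact not_dvd_prB_odd hs h0 (by omega) h7
  case oodd m q =>
    obtain ⟨rfl, -⟩ : m = n - 1 ∧ n - 1 ≤ n := hO
    have hq : q = p ^ f₁ := hfl
    have h5 : f₁ * (2 * (n - 1)) = f * (2 * (n - 1)) := h1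
    have h6 := Nat.eq_of_mul_eq_mul_right (by omega) h5
    rcases Nat.mod_two_eq_zero_or_one n with h0 | h0
    · exact Or.inr ⟨h0, Or.inr (Or.inr (by rw [hq, h6]))⟩
    · exfalso
      obtain ⟨s, hs, hs'⟩ := ex_prim hp hf (by omega) h0 hc hfl (by omega) hs3
      have h7 : s ∣ q ^ ((n - 1) ^ 2) * prB q (n - 1) := hs'
      rw [hq, h6] at h7
      exact not_dvd_prB_odd hs h0 (by omega) h7
  case psu m q =>
    exfalso
    obtain ⟨rfl, h6⟩ : m = 4 ∧ n - 1 = 3 := hO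
    obtain rfl : n = 4 := by omega
    have hq : q = p ^ f₁ := hfl
    have h5 : f₁ * 6 = f * 6 := h1
    have h7 : f₁ = f := by omega
    obtain ⟨s, hs, hs'⟩ := ex_prim hp hf (by norm_num) (by norm_num) hc hfl (by omega) hs4
    have h8 : s ∣ q ^ (4 * (4 - 1) / 2) * prU q 4 := hs'
    rw [hq, h7] at h8
    refine not_dvd_psu_odd hs (by norm_num) (by norm_num) (fun i hi1 hi2 hi3 hi4 => ?_) h8
    interval_cases i <;> omega
  case oplus m q =>
    obtain ⟨h5, -⟩ : m = n - 1 + 1 ∧ n = n - 1 + 1 := hO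
    obtain rfl : m = n := by omega
    have hq : q = p ^ f₁ := hfl
    have h5 : f₁ * (2 * (m - 1)) = f * (2 * (m - 1)) := h1
    exact Or.inl (by rw [hq, Nat.eq_of_mul_eq_mul_right (by omega) h5])
  case ominus m q =>
    exfalso
    obtain ⟨hm4, -⟩ := hg
    obtain ⟨rfl, -⟩ : m = n - 1 ∧ n - 1 - 1 ≤ n := hO
    have hq : q = p ^ f₁ := hfl
    have h5 : f₁ * (2 * (n - 1)) = f * (2 * (n - 1)) := h1
    have h6 := Nat.eq_of_mul_eq_mul_right (by omega) h5
    rcases Nat.mod_two_eq_zero_or_one n with h0 | h0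
    · obtain ⟨s, hs, hs'⟩ := ex_prim hp hf (by omega) (by omega) hc hfl (by omega) hs4
      have h7 : s ∣ q ^ ((n - 1) * (n - 1 - 1)) * ((q ^ (n - 1) + 1) * prB q (n - 1 - 1)) := hs'
      rw [hq, h6] at h7
      exact not_dvd_ominus_odd hs (by omega) (by omega) h7
    · obtain ⟨s, hs, hs'⟩ := ex_prim hp hf (by omega) h0 hc hfl (by omega) hs3
      have h7 : s ∣ q ^ ((n - 1) * (n - 1 - 1)) * ((q ^ (n - 1) + 1) * prB q (n - 1 - 1)) := hs'
      rw [hq, h6, mul_left_comm] at h7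
      rcases hs.prime.dvd_mul.1 h7 with h8 | h8
      · exact not_dvd_add_odd hs h0 (by omega) _ h8
      · exact not_dvd_prB_odd hs h0 (by omega) h8
  case f4 q =>
    exfalso
    obtain ⟨h5, h6⟩ : n - 1 = 3 ∧ n = 4 := hO
    subst h6
    have hq : q = p ^ f₁ := hfl
    have h7 : f₁ * 12 = f * 6 := h1
    have h8 : f = 2 * f₁ := by omega
    have h9 : 1 * c = q ^ 24 * ((q ^ 2 - 1) * (q ^ 6 - 1) * (q ^ 8 - 1) * (q ^ 12 - 1)) := hc
    have h10 : prB (p ^ f) (4 - 1) = ((p ^ f) ^ 2 - 1) * ((p ^ f) ^ 4 - 1) * ((p ^ f) ^ 6 - 1) := by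
      rw [prB_eq, Finset.prod_range_succ, Finset.prod_range_succ, Finset.prod_range_succ, Finset.prod_range_zero,
        one_mul]
    obtain ⟨x, hx⟩ : ∃ x, x = q ^ 2 := ⟨_, rfl⟩
    have hx2 : p ^ f = x := by rw [hx, hq, h8, ← pow_mul, mul_comm]
    rw [hx2] at h10 hdvd
    rw [h10] at hdvd
    rw [one_mul, show q ^ 24 = x ^ 12 by rw [hx]; ring, show q ^ 6 = x ^ 3 by rw [hx]; ring,
      show q ^ 8 = x ^ 4 by rw [hx]; ring, show q ^ 12 = x ^ 6 by rw [hx]; ring, ← hx] at h9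
    rw [h9] at hdvd
    have hx3 : 2 ≤ x := hx2 ▸ hq2
    have hpos : ∀ k, 1 ≤ k → 0 < x ^ k - 1 := fun k hk => by
      have : 1 < x ^ k := Nat.one_lt_pow (by omega) (by omega)
      omega
    have h11 : (x ^ 12 * (x ^ 4 - 1) * (x ^ 6 - 1)) * ((x - 1) * (x ^ 3 - 1)) ∣
        (x ^ 12 * (x ^ 4 - 1) * (x ^ 6 - 1)) * ((x ^ 2 - 1) * (x ^ 4 - 1)) := by
      obtain ⟨k, hk⟩ := hdvd
      refine ⟨k, ?_⟩
      calc (x ^ 12 * (x ^ 4 - 1) * (x ^ 6 - 1)) * ((x ^ 2 - 1) * (x ^ 4 - 1)) =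
          x ^ (4 * (4 - 1)) * ((x ^ 4 - 1) * ((x ^ 2 - 1) * (x ^ 4 - 1) * (x ^ 6 - 1))) := by
            norm_num only
            ring
        _ = _ := hk
        _ = _ := by ring
    have h12 := Nat.dvd_of_mul_dvd_mul_left (Nat.mul_pos (Nat.mul_pos (by positivity) (hpos 4 (by norm_num)))
      (hpos 6 (by norm_num))) h11
    exact f4_dvd hx3 h12
  case te6 q =>
    exfalso
    obtain ⟨h5, h6⟩ : n - 1 = 3 ∧ n = 4 := hO
    subst h6
    obtain ⟨i, ⟨hi1, hi2, -⟩, hi3⟩ := h4 10 (by show (10 : ℕ) ∈ _; decide) (by omega) (by omega)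
    have hi4 : 6 * 10 ∣ 18 * i := hi3
    have hi5 : i ≤ 6 := hi2
    interval_cases i <;> omega
  all_goals exact absurd hO not_false

/-- **`T = PSU_4(q)`, `q ≠ 2`.** -/
theorem charp_psu4 (hp : p.Prime) (hf : 1 ≤ f) (hex1 : ¬ (p = 2 ∧ f * 6 = 6)) (hg : Cond g)
    (hch : HasChar p g) (hc : den g * c = num g)
    (hdvd : c ∣ (p ^ f) ^ (4 * (4 - 1) / 2) * prU (p ^ f) 4)
    (hs1 : HS p f 6 g c) (hs2 : HS p f 4 g c) :
    g = .psu 4 (p ^ f) := by
  obtain ⟨f₁, hf₁, hfl, hK, hY⟩ := kd_all hp hg hch hc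
  have hT := td_psu hp hf hdvd
  have hM2 := two_le_Mg hg hch
  have hb : f₁ ≤ f * 6 := f1_le hp hf₁ hT hK hY hM2 (show 3 ≤ f * 6 by omega)
  obtain ⟨h1, h2, h3, h4⟩ := comp hp hf hf₁ hT hK (show 3 ≤ f * 6 by omega) hex1
    (fun s hs => hs1.big hp hf hfl hb hs) hY (by
    intro hp2 h6 h5
    have : f * 6 ≤ 5 := h5
    omega)
  have h1' : f₁ * Mg g = f * 6 := h1
  have h2' : ag g * 6 ≤ 6 * Mg g := h2
  have hA : 2 * ag g ≤ 2 * Mg g := by omega
  have hO := caseA (N := 3) (ρ := 2) (by omega) (by omega) hg hch hA (fun x hx => hK.le hx) (by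
    obtain ⟨x, hx, hx2⟩ := h3 4 (by omega) (by omega) fun s hs => hs2.big hp hf hfl (f1_le' hM2 h1' (by omega)) hs
    refine ⟨x, hx, ?_⟩
    have hx3 : 4 * Mg g ∣ 6 * x := hx2
    refine Nat.dvd_of_mul_dvd_mul_left (show 0 < 2 by norm_num) ?_
    obtain ⟨k, hk⟩ := hx3
    exact ⟨k, by linarith only [hk]⟩)
  have hq2 : 2 ≤ p ^ f := (hp.two_le).trans (Nat.le_self_pow (by omega) _)
  cases g
  case psl m q =>
    exfalso
    obtain rfl : m = 3 := hO
    have hq : q = p ^ f₁ := hfl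
    have h5 : f₁ * 3 = f * 6 := h1
    have h6 : f₁ = 2 * f := by omega
    obtain ⟨s, hs⟩ := exists_prim hq2 (e := 3) (by omega) (by omega)
    have hQ : q = (p ^ f) ^ 2 := by rw [hq, h6, mul_comm 2 f, pow_mul]
    -- `s ∣ c`
    have h7 : s ∣ Nat.gcd 3 (q - 1) * (q - 1) * c := by
      have : Nat.gcd 3 (q - 1) * (q - 1) * c = glN 3 q := hc
      rw [this, glN_eq, hQ]
      refine Dvd.dvd.mul_left ?_ _
      refine Dvd.dvd.trans ?_ (Finset.dvd_prod_of_mem (fun j => ((p ^ f) ^ 2) ^ (j + 1) - 1)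
        (Finset.mem_range.2 (show 2 < 3 by norm_num)))
      show s ∣ ((p ^ f) ^ 2) ^ (2 + 1) - 1
      rw [← pow_mul]
      exact hs.dvd (by norm_num)
    have h8 : ¬ s ∣ q - 1 := by
      rw [hQ, hs.dvd_iff]
      norm_num
    have h9 : s ∣ c := by
      rcases hs.prime.dvd_mul.1 h7 with h | h
      · rcases hs.prime.dvd_mul.1 h with h | h
        · exact absurd (h.trans (Nat.gcd_dvd_right _ _)) h8
        · exact absurd h h8
      · exact h
    refine not_dvd_psu_odd hs (by norm_num) (by norm_num) (fun i hi1 hi2 hi3 hi4 => ?_) (h9.trans hdvd)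
    interval_cases i <;> omega
  case psp m q =>
    exfalso
    obtain ⟨-, h5⟩ : m = 3 ∧ 3 ≤ 2 := hO
    omega
  case oodd m q =>
    exfalso
    obtain ⟨-, h5⟩ : m = 3 ∧ 3 ≤ 2 := hO
    omega
  case psu m q =>
    obtain ⟨rfl, -⟩ : m = 4 ∧ 3 = 3 := hO
    have hq : q = p ^ f₁ := hfl
    have h5 : f₁ * 6 = f * 6 := h1
    rw [hq, show f₁ = f by omega]
  case oplus m q =>
    exfalso
    obtain ⟨-, h5⟩ : m = 3 + 1 ∧ 2 = 3 + 1 := hO
    omega
  case ominus m q =>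
    exfalso
    obtain ⟨hm4, -⟩ := hg
    obtain ⟨h5, -⟩ : m = 3 ∧ 3 - 1 ≤ 2 := hO
    omega
  case f4 q =>
    exfalso
    obtain ⟨-, h5⟩ : 3 = 3 ∧ 2 = 4 := hO
    omega
  case te6 q =>
    exfalso
    obtain ⟨-, h5⟩ : 3 = 3 ∧ 2 = 4 := hO
    omega
  all_goals exact absurd hO not_false

/-- **`T = PSU_n(q)`, `n ≥ 5`.** -/
theorem charp_psu (hp : p.Prime) (hf : 1 ≤ f) {n N : ℕ} (hn : 5 ≤ n) (hN : N = if n % 2 = 0 then n - 1 else n)
    (hex2 : ¬ (p = 2 ∧ f * (2 * (N - 2)) = 6)) (hg : Cond g)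
    (hch : HasChar p g) (hc : den g * c = num g)
    (hdvd : c ∣ (p ^ f) ^ (n * (n - 1) / 2) * prU (p ^ f) n)
    (hs1 : HS p f (2 * N) g c) (hs2 : HS p f (2 * (N - 2)) g c)
    (hs3 : n % 4 = 0 → HS p f n g c) (hs4 : n % 4 = 2 → HS p f (n / 2) g c) :
    g = .psu n (p ^ f) := by
  obtain ⟨f₁, hf₁, hfl, hK, hY⟩ := kd_all hp hg hch hc
  have hT := td_psu hp hf hdvd
  rw [← hN] at hT
  have hN5 : 5 ≤ N := by rw [hN]; split_ifs <;> omega
  have hNo : N % 2 = 1 := by rw [hN]; split_ifs <;> omega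
  have hfn : 1 * (2 * N) ≤ f * (2 * N) := Nat.mul_le_mul_right _ hf
  have hfn' : 1 * (2 * (N - 2)) ≤ f * (2 * (N - 2)) := Nat.mul_le_mul_right _ hf
  have hM2 := two_le_Mg hg hch
  have hb := f1_le hp hf₁ hT hK hY hM2 (by omega)
  obtain ⟨h1, h2, h3, h4⟩ := comp hp hf hf₁ hT hK (by omega) (by omega) (fun s hs => hs1.big hp hf hfl hb hs) hY (by
    intro hp2 h6 h5
    omega)
  have hh := half n
  have hB : 4 * ag g ≤ (if n % 2 = 0 then n else n - 1) * Mg g := by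
    have h5 : N * (4 * ag g) ≤ N * ((if n % 2 = 0 then n else n - 1) * Mg g) := by
      calc N * (4 * ag g) = 2 * (ag g * (2 * N)) := by ring
        _ ≤ 2 * (n * (n - 1) / 2 * Mg g) := Nat.mul_le_mul_left _ h2
        _ = (2 * (n * (n - 1) / 2)) * Mg g := by ring
        _ = n * (n - 1) * Mg g := by rw [← hh]
        _ = N * ((if n % 2 = 0 then n else n - 1) * Mg g) := by
          rw [hN]
          split_ifs <;> ring
    exact Nat.le_of_mul_le_mul_left h5 (by omega)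
  have hO := caseB (N := N) (ρ := if n % 2 = 0 then n else n - 1) hN5 hNo (by rw [hN]; split_ifs <;> omega) hg hch hB
    (fun x hx => hK.le hx) (by
    obtain ⟨x, hx, hx2⟩ := h3 (2 * (N - 2)) (by (clear * - hN5 hfn'; omega)) hex2 fun s hs => hs2.big hp hf hfl (f1_le' hM2 h1 (by (clear * - hN5; omega))) hs
    refine ⟨x, hx, ?_⟩
    rw [mul_assoc, mul_assoc] at hx2
    exact Nat.dvd_of_mul_dvd_mul_left (by norm_num) hx2)
  have hq2 : 2 ≤ p ^ f := (hp.two_le).trans (Nat.le_self_pow (by omega) _)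
  cases g
  case psu m q =>
    have hO' : m = N ∨ (m = N + 1 ∧ (if n % 2 = 0 then n else n - 1) = N + 1) := hO
    have hq : q = p ^ f₁ := hfl
    have h5 : f₁ * (2 * (if m % 2 = 0 then m - 1 else m)) = f * (2 * N) := h1
    have h6 : (if m % 2 = 0 then m - 1 else m) = N := by
      rcases hO' with h | ⟨h, -⟩
      · rw [if_neg (by omega)]
        exact h
      · rw [if_pos (by omega)]
        (clear * - h; omega)
    rw [h6] at h5
    have h7 : f₁ = f := Nat.eq_of_mul_eq_mul_right (by omega) h5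
    rw [h7] at hq
    suffices hmn : m = n by rw [hq, hmn]
    rcases Nat.mod_two_eq_zero_or_one n with h0 | h0
    · rw [if_pos h0] at hN hO'
      rcases hO' with h | ⟨h, -⟩
      · exfalso
        have h8 : c ∣ q ^ (m * (m - 1) / 2) * prU q m := by
          have : den (.psu m q) * c = q ^ (m * (m - 1) / 2) * prU q m := hc
          rw [← this]
          exact Dvd.intro_left _ rfl
        rw [hq] at h8
        rcases (show n % 4 = 0 ∨ n % 4 = 2 by (clear * - h0; omega)) with h9 | h9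
        · have hfn2 : 1 * n ≤ f * n := Nat.mul_le_mul_right _ hf
          obtain ⟨s, hs0⟩ := exists_prim hp.two_le (e := f * n) (by omega) (by (clear * - hn h9 hfn2; omega))
          have hs := prim_pow hf hs0
          have h10 := ((hs3 h9).mem hp hfl hs (by
            have h11 := lt_of_prim hs0
            have h12 : f * 1 ≤ f * n := Nat.mul_le_mul_left _ (by omega)
            omega)).trans h8
          rw [← pow_one (p ^ f)] at h10
          obtain ⟨i, hi, hi2⟩ := exp_psu hs h10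
          rw [one_mul] at hi2
          rcases hi with ⟨hi3, hi4, -⟩ | ⟨j, rfl, hj, hj2⟩
          · have := Nat.le_of_dvd (by omega) hi2
            (clear * - hN hNo h hi4 this; omega)
          · obtain ⟨k, hk⟩ := hi2
            rcases Nat.lt_or_ge k 2 with h11 | h11
            · interval_cases k <;> omega
            · have : n * 2 ≤ n * k := Nat.mul_le_mul_left _ h11
              (clear * - hN h hj hj2 hk this; omega)
        · obtain ⟨s, hs, hs''⟩ := ex_prim hp hf (e := n / 2) (by omega) (by omega) hc hfl (by omega) (hs4 h9)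
          have hs3' : s ∣ q ^ (m * (m - 1) / 2) * prU q m := hs''
          rw [hq] at hs3'
          refine not_dvd_psu_odd hs (by omega) (by omega) (fun i hi1 hi2 hi3 hi4 => ?_) hs3'
          obtain ⟨k, hk⟩ := hi4
          rcases Nat.lt_or_ge k 2 with h11 | h11
          · interval_cases k <;> omega
          · have : n / 2 * 2 ≤ n / 2 * k := Nat.mul_le_mul_left _ h11
            (clear * - hN h h9 hi2 hk this; omega)
      · (clear * - hN hN5 h; omega)
    · rw [if_neg (by (clear * - h0; omega))] at hN hO'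
      rcases hO' with h | ⟨h, h8⟩
      · (clear * - hN h; omega)
      · (clear * - hN h8; omega)
  all_goals exact absurd hO not_false

end Cfsg.Agent.H264.FKS
end

-- part: H264/FKS/Res
section
/-!
# Almost simple subgroups with socle of Lie type in characteristic `p`: primes of the socle (helper264)

* `exists_lie`: from the name `g` (`IsNamed g S`, `HasChar p g`) to the shape of `H902`;
* `dvd_of_out`: a prime `s ≥ 5` larger than the field exponent of `S`, dividing `|Out S|`, divides `|S|`;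
* `dvd_aut`: `|R|` divides `|Aut S|` if `S` is normal in `R` with trivial centraliser;
* `HS.of`: the hypothesis of the theorems in `CharP`, `CharP2`.
-/

set_option autoImplicit false

namespace Cfsg.Agent.H264.FKS

open Cfsg Cfsg.Agent.OrdDiv Cfsg.Agent.H436 Cfsg.Agent.H915.GN Cfsg.Agent.H264.GN Cfsg.Agent.H902
  Cfsg.Agent.H902.Names Finset

universe u

variable {p f c : ℕ} {g : Grp}

theorem exists_lie {S : Type u} [Group S] (hp : p.Prime) (hn : IsNamed g S) (hch : HasChar p g) :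
    ∃ X f₁, IsLie g X p f₁ ∧ Art.Real X p f₁ (Nat.card S) ∧ fld g = p ^ f₁ := by
  obtain ⟨hr, hc, he, -⟩ := hn
  cases g
  case psl m q =>
    obtain ⟨f, rfl⟩ := hch
    obtain ⟨h1, h2, h3⟩ := hc
    obtain ⟨F, _, _, hF, ⟨e⟩⟩ := hr
    exact ⟨_, f, .psl m p f, by rw [Nat.card_congr e.toEquiv]; exact psl_real hp (f_pos h3 rfl) hF h1 h2, rfl⟩
  case psp m q =>
    obtain ⟨f, rfl⟩ := hch
    obtain ⟨h1, h2, h3⟩ := hc
    obtain ⟨F, _, _, hF, ⟨e⟩⟩ := hr
    exact ⟨_, f, .psp m p f, by rw [Nat.card_congr e.toEquiv]; exact psp_real hp (f_pos h3 rfl) hF h1 h2, rfl⟩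
  case psu m q =>
    obtain ⟨f, rfl⟩ := hch
    obtain ⟨h1, h2, h3⟩ := hc
    obtain ⟨F, _, _, hF, ⟨e⟩⟩ := hr
    exact ⟨_, f, .psu m p f, by rw [Nat.card_congr e.toEquiv]; exact psu_real hp (f_pos h3 rfl) hF h1 h2, rfl⟩
  case oodd m q =>
    obtain ⟨f, rfl⟩ := hch
    obtain ⟨h1, h2, h3⟩ := hc
    obtain ⟨F, _, _, hF, ⟨e⟩⟩ := hr
    exact ⟨_, f, .oodd m p f h1 h2, by rw [Nat.card_congr e.toEquiv]; exact oodd_real hp (f_pos h3 rfl) hF h1 h2,
      rfl⟩
  case oplus m q =>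
    obtain ⟨f, rfl⟩ := hch
    obtain ⟨h1, h3⟩ := hc
    obtain ⟨F, _, _, hF, ⟨e⟩⟩ := hr
    exact ⟨_, f, .oplus m p f, by rw [Nat.card_congr e.toEquiv]; exact oplus_real hp (f_pos h3 rfl) hF h1, rfl⟩
  case ominus m q =>
    obtain ⟨f, rfl⟩ := hch
    obtain ⟨h1, h3⟩ := hc
    obtain ⟨F, _, _, a, b, hF, hab, ⟨e⟩⟩ := hr
    exact ⟨_, f, .ominus m p f, by
      rw [Nat.card_congr e.toEquiv]; exact ominus_real hp (f_pos h3 rfl) hF h1 hab, rfl⟩
  case g2 q =>
    obtain ⟨f, rfl⟩ := hch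
    exact ⟨_, f, .g2 p f, ⟨hp, f_pos hc.2 rfl, hc.1, he⟩, rfl⟩
  case f4 q =>
    obtain ⟨f, rfl⟩ := hch
    exact ⟨_, f, .f4 p f, ⟨hp, f_pos hc rfl, trivial, he⟩, rfl⟩
  case e6 q =>
    obtain ⟨f, rfl⟩ := hch
    exact ⟨_, f, .e6 p f, ⟨hp, f_pos hc rfl, trivial, he⟩, rfl⟩
  case e7 q =>
    obtain ⟨f, rfl⟩ := hch
    exact ⟨_, f, .e7 p f, ⟨hp, f_pos hc rfl, trivial, he⟩, rfl⟩
  case e8 q =>
    obtain ⟨f, rfl⟩ := hch
    exact ⟨_, f, .e8 p f, ⟨hp, f_pos hc rfl, trivial, he⟩, rfl⟩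
  case te6 q =>
    obtain ⟨f, rfl⟩ := hch
    exact ⟨_, f, .te6 p f, ⟨hp, f_pos hc rfl, trivial, he⟩, rfl⟩
  case td4 q =>
    obtain ⟨f, rfl⟩ := hch
    exact ⟨_, f, .td4 p f, ⟨hp, f_pos hc rfl, trivial, he⟩, rfl⟩
  case sz q =>
    obtain ⟨f, rfl⟩ := hch
    obtain ⟨m, hm, hqm⟩ := hc
    have hp2 : p = 2 := by
      have h1 : p ∣ 2 ^ (2 * m + 1) := by
        rw [← hqm]
        refine dvd_pow_self p ?_
        rintro rfl
        rw [pow_zero] at hqm
        have := Nat.one_lt_two_pow (n := 2 * m + 1) (by omega)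
        omega
      exact (Nat.prime_dvd_prime_iff_eq hp Nat.prime_two).1 (hp.dvd_of_dvd_pow h1)
    subst hp2
    have hf : f = 2 * m + 1 := Nat.pow_right_injective (le_refl 2) hqm
    exact ⟨_, f, .sz 2 f, ⟨hp, by omega, ⟨rfl, hf ▸ odd_two_mul_add_one m, by omega⟩, he⟩, rfl⟩
  case ree q =>
    obtain ⟨f, rfl⟩ := hch
    obtain ⟨m, hm, hqm⟩ := hc
    have hp2 : p = 3 := by
      have h1 : p ∣ 3 ^ (2 * m + 1) := by
        rw [← hqm]
        refine dvd_pow_self p ?_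
        rintro rfl
        rw [pow_zero] at hqm
        have := Nat.one_lt_pow (a := 3) (n := 2 * m + 1) (by omega) (by norm_num)
        omega
      exact (Nat.prime_dvd_prime_iff_eq hp Nat.prime_three).1 (hp.dvd_of_dvd_pow h1)
    subst hp2
    have hf : f = 2 * m + 1 := Nat.pow_right_injective (by norm_num : 2 ≤ 3) hqm
    exact ⟨_, f, .ree 3 f, ⟨hp, by omega, ⟨rfl, hf ▸ odd_two_mul_add_one m, by omega⟩, he⟩, rfl⟩
  case tf4 q =>
    obtain ⟨f, rfl⟩ := hch
    obtain ⟨m, hm, hqm⟩ := hc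
    have hp2 : p = 2 := by
      have h1 : p ∣ 2 ^ (2 * m + 1) := by
        rw [← hqm]
        refine dvd_pow_self p ?_
        rintro rfl
        rw [pow_zero] at hqm
        have := Nat.one_lt_two_pow (n := 2 * m + 1) (by omega)
        omega
      exact (Nat.prime_dvd_prime_iff_eq hp Nat.prime_two).1 (hp.dvd_of_dvd_pow h1)
    subst hp2
    have hf : f = 2 * m + 1 := Nat.pow_right_injective (le_refl 2) hqm
    exact ⟨_, f, .tf4 2 f, ⟨hp, by omega, ⟨rfl, hf ▸ odd_two_mul_add_one m, by omega⟩, he⟩, rfl⟩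
  all_goals exact absurd hch not_false

/-- `D c = q^N A`, `D ∣ a`, `a^2 ∣ A`, `D ≠ 0` implies `a ∣ c` -/
theorem dvd_of_sq {D c N A a : ℕ} (h : D * c = N * A) (hD : D ∣ a) (hA : a * a ∣ A) (hD0 : 0 < D) : a ∣ c := by
  obtain ⟨k, rfl⟩ := hD
  obtain ⟨m, rfl⟩ := hA
  refine ⟨N * k * m, ?_⟩
  apply Nat.eq_of_mul_eq_mul_left hD0
  rw [h]
  ring

/-- a prime `s ≥ 5` dividing the order of the diagonal outer automorphisms divides the order of the group -/
theorem dvd_of_dd {X : Art.Sh} {M s : ℕ} (hs : s.Prime) (h5 : 5 ≤ s) (h : Art.Real X p f M)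
    (hd : s ∣ Art.dd X (p ^ f)) : s ∣ M := by
  obtain ⟨hp, hf, hok, he⟩ := h
  have h4 : ∀ {a b : ℕ}, a ≤ 4 → 0 < a → s ∣ Nat.gcd a b → False := fun h1 h2 h3 => by
    have := Nat.le_of_dvd h2 (h3.trans (Nat.gcd_dvd_left _ _))
    omega
  have hq : 2 ≤ p ^ f := hp.two_le.trans (Nat.le_self_pow (by omega) _)
  cases X
  case L n =>
    have hd' : s ∣ Nat.gcd n (p ^ f - 1) := hd
    have hn : 5 ≤ n := h5.trans (Nat.le_of_dvd (by have := hok.1; omega) (hd'.trans (Nat.gcd_dvd_left _ _)))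
    have he' : Nat.gcd n (p ^ f - 1) * M = (p ^ f) ^ (n * (n - 1) / 2) *
      ∏ i ∈ range (n - 1), ((p ^ f) ^ (i + 2) - 1) := he
    refine (hd'.trans (Nat.gcd_dvd_right _ _)).trans (dvd_of_sq he' (Nat.gcd_dvd_right _ _) ?_
      (Nat.gcd_pos_of_pos_left _ (by omega)))
    obtain ⟨m, rfl⟩ := Nat.exists_eq_add_of_le' hn
    rw [show m + 5 - 1 = (m + 2) + 1 + 1 by omega, prod_range_succ, prod_range_succ, mul_assoc]
    refine Dvd.dvd.mul_left (Nat.mul_dvd_mul ?_ ?_) _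
    · exact Nat.sub_one_dvd_pow_sub_one _ _
    · exact Nat.sub_one_dvd_pow_sub_one _ _
  case U n =>
    have hd' : s ∣ Nat.gcd n (p ^ f + 1) := hd
    have hn : 5 ≤ n := h5.trans (Nat.le_of_dvd (by have := hok.1; omega) (hd'.trans (Nat.gcd_dvd_left _ _)))
    have he' : Nat.gcd n (p ^ f + 1) * M = (p ^ f) ^ (n * (n - 1) / 2) *
      ∏ i ∈ range (n - 1), (if Even i then (p ^ f) ^ (i + 2) - 1 else (p ^ f) ^ (i + 2) + 1) := he
    refine (hd'.trans (Nat.gcd_dvd_right _ _)).trans (dvd_of_sq he' (Nat.gcd_dvd_right _ _) ?_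
      (Nat.gcd_pos_of_pos_left _ (by omega)))
    have key : ∀ i, (p ^ f) + 1 ∣ (if Even i then (p ^ f) ^ (i + 2) - 1 else (p ^ f) ^ (i + 2) + 1) := fun i => by
      split_ifs with hi
      · obtain ⟨k, rfl⟩ := hi
        rw [show k + k + 2 = 2 * (k + 1) by ring, pow_mul]
        refine Dvd.dvd.trans ?_ (Nat.sub_one_dvd_pow_sub_one _ _)
        have := Nat.sq_sub_sq (p ^ f) 1
        rw [one_pow] at this
        rw [this]
        exact Dvd.intro _ rfl
      · have hodd : Odd (i + 2) := by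
          rw [Nat.not_even_iff_odd] at hi
          exact hi.add_even even_two
        have := hodd.nat_add_dvd_pow_add_pow (p ^ f) 1
        rwa [one_pow] at this
    obtain ⟨m, rfl⟩ := Nat.exists_eq_add_of_le' hn
    rw [show m + 5 - 1 = (m + 2) + 1 + 1 by omega, prod_range_succ, prod_range_succ, mul_assoc]
    exact Dvd.dvd.mul_left (Nat.mul_dvd_mul (key _) (key _)) _
  case C m => exact (h4 (by norm_num) (by norm_num) hd).elim
  case D m => exact (h4 (by norm_num) (by norm_num) hd).elim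
  case DD m => exact (h4 (by norm_num) (by norm_num) hd).elim
  case E6 => exact (h4 (by norm_num) (by norm_num) hd).elim
  case E7 => exact (h4 (by norm_num) (by norm_num) hd).elim
  case TE6 => exact (h4 (by norm_num) (by norm_num) hd).elim
  all_goals
    have h6 : s ∣ 1 := hd
    exact absurd (Nat.dvd_one.1 h6) (by omega)

theorem dvd_of_out {S : Type u} [Group S] [Finite S] [IsSimpleGroup S] (hna : ¬ ∀ a b : S, a * b = b * a)
    (hp : p.Prime) (hn : IsNamed g S) (hch : HasChar p g) {s : ℕ} (hs : s.Prime) (h5 : 5 ≤ s)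
    (hlt : ∀ f₁, fld g = p ^ f₁ → f₁ < s) (h : s ∣ Nat.card (Cfsg.Out S)) : s ∣ Nat.card S := by
  obtain ⟨X, f₁, h1, h2, h3⟩ := exists_lie hp hn hch
  obtain ⟨k, h4, h6, -⟩ := H364.OutLie.card_out hna h1 hn.real h2
  rw [h4] at h
  rcases hs.dvd_mul.1 h with h7 | h7
  · rcases hs.dvd_mul.1 (h7.trans h6) with h8 | h8
    · exfalso
      have h9 : s ∣ 2 ^ 3 * 3 := h8
      rcases hs.dvd_mul.1 h9 with h10 | h10
      · have := Nat.le_of_dvd (by norm_num) (hs.dvd_of_dvd_pow h10)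
        omega
      · have := Nat.le_of_dvd (by norm_num) h10
        omega
    · exact dvd_of_dd hs h5 h2 h8
  · exfalso
    have := Nat.le_of_dvd (by have := h2.hf; omega) h7
    have := hlt f₁ h3
    omega

/-- `|R|` divides `|Aut S|` for `S` normal in `R` with trivial centraliser. -/
theorem dvd_aut {R : Type*} [Group R] [Finite R] (S : Subgroup R) [S.Normal]
    (hC : Subgroup.centralizer (S : Set R) = ⊥) : Nat.card R ∣ Nat.card (MulAut S) := by
  have hinj : Function.Injective (MulAut.conjNormal : R →* MulAut S) := by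
    rw [← MonoidHom.ker_eq_bot_iff, eq_bot_iff]
    intro x hx
    rw [← hC, Subgroup.mem_centralizer_iff]
    intro y hy
    have h1 := DFunLike.congr_fun ((MonoidHom.mem_ker).1 hx) ⟨y, hy⟩
    have h2 := congrArg Subtype.val h1
    rw [MulAut.conjNormal_apply, MulAut.one_apply] at h2
    exact (mul_inv_eq_iff_eq_mul.1 h2).symm
  rw [Nat.card_congr ((MulAut.conjNormal : R →* MulAut S).ofInjective hinj).toEquiv]
  exact Subgroup.card_subgroup_dvd_card _

theorem not_comm {S : Type*} [Group S] (h : ¬ IsMulCommutative S) : ¬ ∀ a b : S, a * b = b * a :=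
  fun hc => h ⟨⟨hc⟩⟩

/-- **A large prime of `R` is a prime of the socle.** -/
theorem dvd_socle {R : Type*} [Group R] [Finite R] (S : Subgroup R) [S.Normal] [IsSimpleGroup S]
    (hna : ¬ IsMulCommutative S) (hC : Subgroup.centralizer (S : Set R) = ⊥) (hp : p.Prime) (hn : IsNamed g S)
    (hch : HasChar p g) {s : ℕ} (hs : s.Prime) (h5 : 5 ≤ s) (hlt : ∀ f₁, fld g = p ^ f₁ → f₁ < s)
    (h : s ∣ Nat.card R) : s ∣ Nat.card S := by
  have h1 := h.trans (dvd_aut S hC)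
  rw [← H934.OutB.card_out_mul S hna] at h1
  rcases hs.dvd_mul.1 h1 with h2 | h2
  · exact dvd_of_out (not_comm hna) hp hn hch hs h5 hlt h2
  · exact h2

theorem five_le_of_prim {e s : ℕ} (he : 3 ≤ e) (hs : Prim (p ^ f) e s) : 5 ≤ s := by
  have h1 := lt_of_prim hs
  have h2 := hs.prime
  by_contra h3
  have : s = 4 := by omega
  subst this
  exact absurd h2 (by norm_num)

/-- the hypothesis of the theorems `charp_*` -/
theorem HS.of {R : Type*} [Group R] [Finite R] (S : Subgroup R) [S.Normal] [IsSimpleGroup S]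
    (hna : ¬ IsMulCommutative S) (hC : Subgroup.centralizer (S : Set R) = ⊥) (hp : p.Prime) (hn : IsNamed g S)
    (hch : HasChar p g) {e : ℕ} (he : 3 ≤ e) (h : ∀ s, Prim (p ^ f) e s → s ∣ Nat.card R) :
    HS p f e g (Nat.card S) := fun s hs hlt =>
  dvd_socle S hna hC hp hn hch hs.prime (five_le_of_prim he hs) hlt (h s hs)

end Cfsg.Agent.H264.FKS
end
end

-- part: H192/Dp/Res
section
set_option linter.all false
open scoped Cfsg.Agent.FastGrp

-- part: H192/Dp/Defs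
section
/-!
# Derangements in almost simple groups: interface and counting (helper192, project S5734)

* `ders H` : the elements of `G` without conjugates in `H` (the derangements on `G ⧸ H`);
* `DerN w H` : at least `|G| / w` elements have no conjugate in `H`;
* `LogT ε T` : `ε |T| ≤ log |T : R| * #ders R` for all proper `R`;
* `LogB ε T` : the same for all almost simple groups with socle `T`;
* `GoodP G u w` : the Sylow `u`-subgroups are cyclic, `|N(X) : C(X)| ≤ w` for `|X| = u`;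
* `GoodP.card_le` : at least `|G| / (2 w)` elements have order divisible by `|G|_u`;
* `GoodP.derN` : `u ∣ |G : R|` implies `DerN (2 w) R`.
-/

set_option autoImplicit false

namespace Cfsg.Agent.H192.Dp

open Subgroup

section basic

variable {G : Type*} [Group G]

/-- the elements without conjugates in `H` -/
def ders (H : Subgroup G) : Set G := {g | ∀ x : G, x * g * x⁻¹ ∉ H}

/-- at least `|G| / w` elements have no conjugate in `H` -/
def DerN (w : ℕ) (H : Subgroup G) : Prop := Nat.card G ≤ w * Nat.card (ders H)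

theorem DerN.mono {v w : ℕ} {H : Subgroup G} (h : DerN v H) (hvw : v ≤ w) : DerN w H :=
  le_trans (show Nat.card G ≤ v * Nat.card (ders H) from h) (Nat.mul_le_mul_right _ hvw)

end basic

section good

/-- `u` is a good prime of `G` with constant `w` -/
structure GoodP (G : Type*) [Group G] (u w : ℕ) : Prop where
  prime : u.Prime
  cyc : ∀ P : Sylow u G, IsCyclic ↥(P : Subgroup G)
  dvd : u ∣ Nat.card G
  aut : ∀ x : G, orderOf x = u →
    (centralizer ({x} : Set G)).relIndex (normalizer (zpowers x : Set G)) ≤ w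

variable {G : Type*} [Group G] [Finite G] {u w : ℕ}

/-- the elements of order divisible by `|G|_u` -/
def fullS (G : Type*) [Group G] (u : ℕ) : Set G := {g | u ^ (Nat.card G).factorization u ∣ orderOf g}

theorem fullS_sub_ders (hu : u.Prime) {R : Subgroup G} (hR : u ∣ R.index) : fullS G u ⊆ ders R := by
  intro g hg x hx
  have h1 : u ^ (Nat.card G).factorization u ∣ Nat.card R := by
    have h2 : orderOf (x * g * x⁻¹) ∣ Nat.card R := by
      rw [← Subgroup.orderOf_mk (x * g * x⁻¹) hx]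
      exact orderOf_dvd_natCard _
    have h3 : orderOf (x * g * x⁻¹) = orderOf g := by
      rw [← MulAut.conj_apply]
      exact (MulAut.conj x).orderOf_eq g
    rw [h3] at h2
    exact dvd_trans hg h2
  have h4 : u ^ ((Nat.card G).factorization u + 1) ∣ Nat.card G := by
    have h5 := Nat.mul_dvd_mul h1 hR
    rwa [Subgroup.card_mul_index R, ← pow_succ] at h5
  exact Nat.pow_succ_factorization_not_dvd Nat.card_pos.ne' hu h4

end good

end Cfsg.Agent.H192.Dp
end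

-- part: H192/Dp/Count
section
/-!
# Counting elements of full `u`-order (helper192, project S5734)
-/

set_option autoImplicit false

namespace Cfsg.Agent.H192.Dp

open Subgroup

variable {G : Type*} [Group G]

theorem mem_of_coprime {S : Subgroup G} {n : G} {a b : ℕ} (hab : Nat.Coprime a b) (ha : n ^ a ∈ S) (hb : n ^ b ∈ S) :
    n ∈ S := by
  have h1 := Nat.gcd_eq_gcd_ab a b
  rw [hab] at h1
  have h2 : n = (n ^ a) ^ Nat.gcdA a b * (n ^ b) ^ Nat.gcdB a b := by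
    rw [← zpow_natCast, ← zpow_natCast, ← zpow_mul, ← zpow_mul, ← zpow_add, ← h1]
    simp
  rw [h2]
  exact mul_mem (zpow_mem ha _) (zpow_mem hb _)

variable [Finite G] {u w : ℕ}

/-- a power prime to `u` of an element normalising a Sylow subgroup lies in the Sylow subgroup -/
theorem pow_mem_sylow [Fact u.Prime] (P : Sylow u G) {n : G} (hn : n ∈ normalizer ((P : Subgroup G) : Set G)) :
    ∃ M : ℕ, Nat.Coprime u M ∧ n ^ M ∈ (P : Subgroup G) ∧ Nat.card G = u ^ (Nat.card G).factorization u * M := by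
  have hu : u.Prime := Fact.out
  obtain ⟨M, hM⟩ : u ^ (Nat.card G).factorization u ∣ Nat.card G := Nat.ordProj_dvd (Nat.card G) u
  have hc : Nat.Coprime u M := by
    rw [hu.coprime_iff_not_dvd]
    rintro ⟨c, rfl⟩
    refine Nat.pow_succ_factorization_not_dvd (n := Nat.card G) Nat.card_pos.ne' hu ⟨c, ?_⟩
    conv_lhs => rw [hM]
    rw [pow_succ]; ring
  refine ⟨M, hc, ?_, hM⟩
  set y := n ^ M with hy
  have hyn : y ∈ normalizer ((P : Subgroup G) : Set G) := pow_mem hn M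
  have hy1 : y ^ u ^ (Nat.card G).factorization u = 1 := by
    rw [hy, ← pow_mul, mul_comm, ← hM, pow_card_eq_one']
  have hyp : IsPGroup u (zpowers y) := by
    intro ⟨g, hg⟩
    obtain ⟨k, rfl⟩ := hg
    refine ⟨(Nat.card G).factorization u, Subtype.ext ?_⟩
    show (y ^ k) ^ u ^ (Nat.card G).factorization u = 1
    rw [← zpow_natCast, ← zpow_mul, mul_comm, zpow_mul, zpow_natCast, hy1, one_zpow]
  have h2 : IsPGroup u ((P : Subgroup G) ⊔ zpowers y : Subgroup G) :=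
    IsPGroup.to_sup_of_normal_left' P.isPGroup' hyp (by rw [zpowers_le]; exact hyn)
  have h3 := P.is_maximal' h2 le_sup_left
  have h4 : zpowers y ≤ (P : Subgroup G) := by
    calc zpowers y ≤ (P : Subgroup G) ⊔ zpowers y := le_sup_right
      _ = P := h3
  exact h4 (mem_zpowers y)

theorem GoodP.exists_gen (h : GoodP G u w) (P : Sylow u G) :
    ∃ z : G, zpowers z = (P : Subgroup G) ∧ orderOf z = u ^ (Nat.card G).factorization u ∧
      1 ≤ (Nat.card G).factorization u := by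
  have hu := h.prime
  have hf := Fact.mk hu
  have ha : 1 ≤ (Nat.card G).factorization u := (hu.dvd_iff_one_le_factorization Nat.card_pos.ne').1 h.dvd
  have hcard : Nat.card (P : Subgroup G) = u ^ (Nat.card G).factorization u := P.card_eq_multiplicity
  have hcyc := h.cyc P
  obtain ⟨⟨z, hzP⟩, hz⟩ := hcyc.exists_generator
  have hzP' : zpowers z = (P : Subgroup G) := by
    apply le_antisymm
    · rw [zpowers_le]; exact hzP
    · intro y hy
      obtain ⟨k, hk⟩ := hz ⟨y, hy⟩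
      exact ⟨k, congrArg Subtype.val hk⟩
  exact ⟨z, hzP', by rw [← Nat.card_zpowers, hzP', hcard], ha⟩

/-- the automizer of a cyclic Sylow subgroup -/
theorem GoodP.relIndex_le (h : GoodP G u w) (P : Sylow u G) :
    (centralizer ((P : Subgroup G) : Set G)).relIndex (normalizer ((P : Subgroup G) : Set G)) ≤ w := by
  have hu := h.prime
  have hf := Fact.mk hu
  obtain ⟨z, hzP', hzo, ha⟩ := h.exists_gen P
  have hzP : z ∈ (P : Subgroup G) := hzP' ▸ mem_zpowers z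
  set a := (Nat.card G).factorization u with hadef
  obtain ⟨b, hb⟩ : ∃ b, a = b + 1 := ⟨a - 1, by omega⟩
  set x := z ^ u ^ b with hx
  have hxo : orderOf x = u := by
    rw [hx, orderOf_pow' z (pow_ne_zero _ hu.ne_zero), hzo, hb, Nat.gcd_eq_right (pow_dvd_pow u (Nat.le_succ b)),
      pow_succ, Nat.mul_div_cancel_left _ (pow_pos hu.pos _)]
  have hxz : x ∈ zpowers z := by rw [hx]; exact npow_mem_zpowers z _
  refine le_trans ?_ (h.aut x hxo)
  set N := normalizer ((P : Subgroup G) : Set G) with hN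
  set C := centralizer ((P : Subgroup G) : Set G) with hC
  have hCN : C ≤ N := centralizer_le_normalizer _
  -- normaliser
  have hNN : N ≤ normalizer (zpowers x : Set G) := by
    intro n hn
    have key : ∀ n ∈ N, ∀ y ∈ zpowers x, n * y * n⁻¹ ∈ zpowers x := by
      intro n hn y hy
      have h1 : n * x * n⁻¹ ∈ zpowers x := by
        have h2 : n * z * n⁻¹ ∈ zpowers z := by
          rw [hzP']
          exact (mem_normalizer_iff.1 hn z).1 hzP
        obtain ⟨k, hk⟩ := h2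
        refine ⟨k, ?_⟩
        have h3 : n * x * n⁻¹ = (n * z * n⁻¹) ^ u ^ b := by rw [conj_pow]
        simp only at hk ⊢
        rw [h3, ← hk, hx, ← zpow_natCast, ← zpow_natCast, ← zpow_mul, ← zpow_mul, mul_comm]
      obtain ⟨k, rfl⟩ := hy
      simp only
      rw [← conj_zpow]
      exact zpow_mem h1 k
    rw [mem_normalizer_iff]
    intro y
    refine ⟨key n hn y, fun hy => ?_⟩
    have := key n⁻¹ (inv_mem hn) _ hy
    have e1 : n⁻¹ * (n * y * n⁻¹) * n⁻¹⁻¹ = y := by group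
    rwa [e1] at this
  -- centraliser
  have hCC : C = N ⊓ centralizer ({x} : Set G) := by
    apply le_antisymm
    · refine le_inf hCN fun c hc => ?_
      rw [mem_centralizer_singleton_iff]
      have h1 := mem_centralizer_iff.1 hc x (by rw [SetLike.mem_coe, ← hzP']; exact hxz)
      exact h1.symm
    · intro n hn'
      have hn : n ∈ N := hn'.1
      have hnx : n ∈ centralizer ({x} : Set G) := hn'.2
      have hnz : n * z * n⁻¹ ∈ zpowers z := by
        rw [hzP']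
        exact (mem_normalizer_iff.1 hn z).1 hzP
      -- the exponent
      have hnz' : n * z * n⁻¹ ∈ Submonoid.powers z := by
        rw [mem_powers_iff_mem_zpowers]; exact hnz
      obtain ⟨k, hk⟩ := hnz'
      simp only at hk
      have hpow : ∀ j : ℕ, n ^ j * z * (n ^ j)⁻¹ = z ^ k ^ j := by
        intro j
        induction j with
        | zero => simp
        | succ j ih =>
          have e1 : n ^ (j + 1) * z * (n ^ (j + 1))⁻¹ = n * (n ^ j * z * (n ^ j)⁻¹) * n⁻¹ := by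
            rw [pow_succ']; group
          rw [e1, ih, ← conj_pow, ← hk, ← pow_mul, ← pow_succ']
      -- `k ≡ 1 mod u`
      have hk1 : k ≡ 1 [MOD u] := by
        have h1 : n * x * n⁻¹ = x := by
          have h0 := mem_centralizer_singleton_iff.1 hnx
          rw [h0, mul_inv_cancel_right]
        have h2 : n * x * n⁻¹ = x ^ k := by
          rw [hx, ← conj_pow, ← hk, ← pow_mul, ← pow_mul, mul_comm]
        rw [h2] at h1
        have h3 : x ^ k = x ^ 1 := by rw [pow_one]; exact h1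
        rw [pow_eq_pow_iff_modEq, hxo] at h3
        exact h3
      have hk2 : k ^ u ^ b ≡ 1 [MOD u ^ a] := by
        have h2 : (u : ℤ) ∣ (k : ℤ) - 1 := by
          have := (Nat.modEq_iff_dvd.1 hk1.symm)
          push_cast at this
          exact this
        have h3 := dvd_sub_pow_of_dvd_sub h2 b
        rw [one_pow] at h3
        refine (Nat.modEq_iff_dvd.2 ?_).symm
        rw [hb]
        push_cast
        exact h3
      have hc1 : n ^ u ^ b ∈ centralizer ({z} : Set G) := by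
        rw [mem_centralizer_singleton_iff]
        have h1 := hpow (u ^ b)
        have h2 : z ^ k ^ u ^ b = z ^ 1 := by
          rw [pow_eq_pow_iff_modEq, hzo]
          exact hk2
        rw [h2, pow_one, mul_inv_eq_iff_eq_mul] at h1
        exact h1
      obtain ⟨M, hM1, hM2, -⟩ := pow_mem_sylow P hn
      have hc2 : n ^ M ∈ centralizer ({z} : Set G) := by
        rw [mem_centralizer_singleton_iff]
        rw [← hzP'] at hM2
        obtain ⟨j, hj⟩ := hM2
        simp only at hj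
        rw [← hj]
        exact ((Commute.refl z).zpow_left j).eq
      have hc3 : n ∈ centralizer ({z} : Set G) := mem_of_coprime (Nat.Coprime.pow_left b hM1) hc1 hc2
      rw [hC, mem_centralizer_iff]
      intro y hy
      rw [SetLike.mem_coe, ← hzP'] at hy
      obtain ⟨j, rfl⟩ := hy
      exact ((show Commute n z from mem_centralizer_singleton_iff.1 hc3).symm.zpow_left j).eq
  rw [hCC, inf_comm, inf_relIndex_right]
  exact relIndex_le_of_le_right hNN (by rw [Subgroup.relIndex]; exact index_ne_zero_of_finite)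

/-- **Counting.** At least `|G| / (2 w)` elements have order divisible by `|G|_u`. -/
theorem GoodP.card_le (h : GoodP G u w) : Nat.card G ≤ 2 * w * Nat.card (fullS G u) := by
  classical
  have hu := h.prime
  have hf := Fact.mk hu
  obtain ⟨P⟩ : Nonempty (Sylow u G) := inferInstance
  obtain ⟨z, hzP', hzo, ha⟩ := h.exists_gen P
  have hzP : z ∈ (P : Subgroup G) := hzP' ▸ mem_zpowers z
  set a := (Nat.card G).factorization u with hadef
  set N := normalizer ((P : Subgroup G) : Set G) with hN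
  set C := centralizer ((P : Subgroup G) : Set G) with hC
  have hCN : C ≤ N := centralizer_le_normalizer _
  set E : Set G := {g | g ∈ C ∧ (P : Subgroup G) ≤ zpowers g} with hE
  -- half of the centraliser
  have h1 : Nat.card C ≤ 2 * Nat.card E := by
    obtain ⟨M, hM1, -, hM⟩ := pow_mem_sylow P (show (1 : G) ∈ N from one_mem _)
    have hMP : ∀ g ∈ C, g ^ M ∈ (P : Subgroup G) := by
      intro g hg
      obtain ⟨M', hM1', h2, hM'⟩ := pow_mem_sylow P (hCN hg)
      have : M = M' := Nat.eq_of_mul_eq_mul_left (pow_pos hu.pos _) (hM.symm.trans hM')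
      rw [this]; exact h2
    have hgood : ∀ g ∈ C, (g ^ M) ^ u ^ (a - 1) ≠ 1 → g ∈ E := by
      intro g hg hne
      refine ⟨hg, ?_⟩
      have hcard : Nat.card (P : Subgroup G) = u ^ a := P.card_eq_multiplicity
      obtain ⟨b, hb⟩ : ∃ b, a = b + 1 := ⟨a - 1, by omega⟩
      have h2 : zpowers (g ^ M) = (P : Subgroup G) := by
        have h3 : orderOf (g ^ M) = u ^ (b + 1) := by
          refine orderOf_eq_prime_pow (by rw [hb, Nat.add_sub_cancel] at hne; exact hne) ?_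
          have h4 : (⟨g ^ M, hMP g hg⟩ : (P : Subgroup G)) ^ Nat.card (P : Subgroup G) = 1 := pow_card_eq_one'
          rw [hcard, hb] at h4
          exact congrArg Subtype.val h4
        apply Subgroup.eq_of_le_of_card_ge
        · rw [zpowers_le]; exact hMP g hg
        · rw [Nat.card_zpowers, h3, hcard, hb]
      rw [← h2, zpowers_le]
      exact npow_mem_zpowers g M
    -- the bad elements inject
    have hCfin : (C : Set G).Finite := Set.toFinite _
    have hbad : ∀ g ∈ (C : Set G) \ E, g * z ∈ E := by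
      rintro g ⟨hg, hgE⟩
      have hg' : (g ^ M) ^ u ^ (a - 1) = 1 := by
        by_contra hne
        exact hgE (hgood g hg hne)
      have hzC : z ∈ C := by
        rw [hC, mem_centralizer_iff]
        intro y hy
        rw [SetLike.mem_coe, ← hzP'] at hy
        obtain ⟨j, rfl⟩ := hy
        exact ((Commute.refl z).zpow_left j).eq
      have hcomm : Commute g z := by
        have := mem_centralizer_iff.1 hg z hzP
        exact this.symm
      apply hgood _ (mul_mem hg hzC)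
      rw [hcomm.mul_pow, (hcomm.pow_pow M M).mul_pow, hg', one_mul, ← pow_mul]
      intro h0
      have h2 := orderOf_dvd_of_pow_eq_one h0
      rw [hzo] at h2
      have h3 : u ^ a ∣ u ^ (a - 1) := (Nat.Coprime.pow_left a hM1).dvd_of_dvd_mul_left h2
      have h4 := (Nat.pow_dvd_pow_iff_le_right hu.one_lt).1 h3
      omega
    have h2 : Nat.card ((C : Set G) \ E : Set G) ≤ Nat.card E := by
      refine Nat.card_le_card_of_injective (fun g => ⟨(g : G) * z, hbad g g.2⟩) ?_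
      intro g g' hgg
      exact Subtype.ext (mul_right_cancel (congrArg Subtype.val hgg))
    have h3 : Nat.card (C : Set G) ≤ Nat.card ((C : Set G) \ E : Set G) + Nat.card E := by
      rw [Nat.card_coe_set_eq, Nat.card_coe_set_eq, Nat.card_coe_set_eq]
      calc (C : Set G).ncard ≤ (((C : Set G) \ E) ∪ E).ncard := by
            apply Set.ncard_le_ncard _ (Set.toFinite _)
            rw [Set.sdiff_union_self]
            exact Set.subset_union_left
        _ ≤ _ := Set.ncard_union_le _ _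
    have h4 : Nat.card (C : Set G) = Nat.card C := rfl
    omega
  -- conjugates
  have h2 : N.index * Nat.card E ≤ Nat.card (fullS G u) := by
    rw [Subgroup.index, ← Nat.card_prod]
    have hmem : ∀ (y : G) (g : G), g ∈ E → y * g * y⁻¹ ∈ fullS G u := by
      rintro y g ⟨-, hg⟩
      have h3 : u ^ a ∣ orderOf g := by
        rw [← Nat.card_zpowers g]
        have h4 : Nat.card (P : Subgroup G) = u ^ a := P.card_eq_multiplicity
        rw [← h4]
        exact Subgroup.card_dvd_of_le hg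
      have h5 : orderOf (y * g * y⁻¹) = orderOf g := by
        rw [← MulAut.conj_apply]
        exact (MulAut.conj y).orderOf_eq g
      show u ^ _ ∣ orderOf (y * g * y⁻¹)
      rw [h5]
      exact h3
    refine Nat.card_le_card_of_injective
      (fun p : (G ⧸ N) × E => (⟨p.1.out * p.2 * (p.1.out)⁻¹, hmem _ _ p.2.2⟩ : fullS G u)) ?_
    rintro ⟨y, g, hgC, hg⟩ ⟨y', g', hgC', hg'⟩ heq
    have heq' : y.out * g * (y.out)⁻¹ = y'.out * g' * (y'.out)⁻¹ := congrArg Subtype.val heq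
    -- both conjugates of `P` are Sylow subgroups of a cyclic group
    have hin : ∀ (t s : G), (P : Subgroup G) ≤ zpowers s →
        ((t • P : Sylow u G) : Subgroup G) ≤ zpowers (t * s * t⁻¹) := by
      intro t s hs x hx
      rw [Sylow.coe_subgroup_smul, Subgroup.mem_smul_pointwise_iff_exists] at hx
      obtain ⟨v, hv, rfl⟩ := hx
      obtain ⟨j, hj⟩ := hs hv
      refine ⟨j, ?_⟩
      simp only at hj ⊢
      rw [← hj, conj_zpow]
      rfl
    have h3 := hin y.out g hg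
    have h4 := hin y'.out g' hg'
    rw [← heq'] at h4
    have hcy : y.out • P = y'.out • P := by
      have h5 : (((y'.out • P : Sylow u G) : Subgroup G)) ≤
          normalizer (((y.out • P : Sylow u G) : Subgroup G) : Set G) := by
        refine le_trans ?_ (centralizer_le_normalizer _)
        intro c hc
        rw [mem_centralizer_iff]
        intro d hd
        obtain ⟨i, hi⟩ := h4 hc
        obtain ⟨j, hj⟩ := h3 hd
        simp only at hi hj
        rw [← hi, ← hj, ← zpow_add, ← zpow_add, add_comm]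
      have h6 := IsPGroup.to_sup_of_normal_left' (y.out • P).isPGroup' (y'.out • P).isPGroup' h5
      have h7 := (y.out • P).is_maximal' h6 le_sup_left
      have h8 : ((y'.out • P : Sylow u G) : Subgroup G) ≤ ((y.out • P : Sylow u G) : Subgroup G) := by
        calc ((y'.out • P : Sylow u G) : Subgroup G) ≤ _ := le_sup_right
          _ = _ := h7
      exact Sylow.ext ((y'.out • P).is_maximal' (y.out • P).isPGroup' h8)
    have hyy : y = y' := by
      rw [← y.out_eq, ← y'.out_eq]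
      refine QuotientGroup.eq.2 ?_
      have h5 : (y.out)⁻¹ * y'.out ∈ normalizer ((P : Subgroup G) : Set G) := by
        refine Sylow.smul_eq_iff_mem_normalizer.1 ?_
        rw [mul_smul, ← hcy, inv_smul_smul]
      exact h5
    subst hyy
    have hgg : g = g' := by
      have := mul_right_cancel heq'
      exact mul_left_cancel this
    subst hgg
    rfl
  have h3 : Nat.card G = N.index * (C.relIndex N * Nat.card C) := by
    have h4 : Nat.card N = C.relIndex N * Nat.card C := by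
      have h5 := Subgroup.card_mul_index (C.subgroupOf N)
      rw [Nat.card_congr (Subgroup.subgroupOfEquivOfLe hCN).toEquiv] at h5
      rw [← h5, mul_comm]
      rfl
    rw [← h4, mul_comm]
    exact (Subgroup.card_mul_index N).symm
  calc Nat.card G = N.index * (C.relIndex N * Nat.card C) := h3
    _ ≤ N.index * (w * (2 * Nat.card E)) := Nat.mul_le_mul_left _ (Nat.mul_le_mul (h.relIndex_le P) h1)
    _ = 2 * w * (N.index * Nat.card E) := by ring
    _ ≤ 2 * w * Nat.card (fullS G u) := Nat.mul_le_mul_left _ h2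

theorem GoodP.derN (h : GoodP G u w) {R : Subgroup G} (hR : u ∣ R.index) : DerN (2 * w) R :=
  h.card_le.trans (Nat.mul_le_mul_left _ (Nat.card_mono (Set.toFinite _) (fullS_sub_ders h.prime hR)))

end Cfsg.Agent.H192.Dp
end

-- part: H192/Dp/Lev
section
/-!
# Good levels of the classical groups (helper192, project S5734)

* `LevP g u` : the prime `u` divides exactly one of the relevant factors of the order of the classical group `g`;
* `GoodIdx g R` : some prime `u` with `LevP g u` divides `|T : R|`.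
-/

set_option autoImplicit false

namespace Cfsg.Agent.H192.Dp

open Cfsg Cfsg.Agent.OrdDiv Cfsg.Agent.H436

/-- `e` even, `m < e ≤ k`, or `e` odd, `m < 2 e`, `e ≤ l` -/
def LevSp (m k l e : ℕ) : Prop := 3 ≤ e ∧ ((Even e ∧ m < e ∧ e ≤ k) ∨ (Odd e ∧ m < 2 * e ∧ e ≤ l))

/-- good primes of the classical groups, by the order `e` of `q` (of `-q` for the unitary groups) modulo `u` -/
def LevP : Grp → ℕ → Prop
  | .psl n q, u => ∃ e, 2 ≤ e ∧ n < 2 * e ∧ e ≤ n ∧ orderOf (q : ZMod u) = e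
  | .psu n q, u => ∃ e, 3 ≤ e ∧ n < 2 * e ∧ e ≤ n ∧ orderOf (-(q : ZMod u)) = e
  | .psp m q, u => ∃ e, LevSp m (2 * m) m e ∧ orderOf (q : ZMod u) = e
  | .oodd m q, u => ∃ e, LevSp m (2 * m) m e ∧ orderOf (q : ZMod u) = e
  | .oplus m q, u => ∃ e, LevSp m (2 * m - 2) m e ∧ orderOf (q : ZMod u) = e
  | .ominus m q, u => ∃ e, LevSp m (2 * m) (m - 1) e ∧ orderOf (q : ZMod u) = e
  | _, _ => False

/-- the dimension of the natural module -/
def dm : Grp → ℕ
  | .psl n _ => n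
  | .psp m _ => 2 * m
  | .psu n _ => n
  | .oodd m _ => 2 * m + 1
  | .oplus m _ => 2 * m
  | .ominus m _ => 2 * m
  | _ => 1

end Cfsg.Agent.H192.Dp
end

-- part: H192/Dp/Res
section
/-!
# The interface between the rows (helper192, project S5734)

* `SpIdx g R` : `m` even, `u` a prime with `ord_u(q) = m`, and `|R|_u ≤ (q^m - 1)_u` (while `|T|_u` is the square);
* `BigCl g` : the classical groups treated by the general rows (`PSL_n`, `PSU_n` for `n ≥ 4`, `PSp_2m` for `m ≥ 3`,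
  orthogonal groups);
* `ResData` : the data of the residual class;
* `ResX`, `ResP` : the residual rows (socle not of / of Lie type in the characteristic of `T`).
-/

set_option autoImplicit false

namespace Cfsg.Agent.H192.Dp

open Cfsg Cfsg.Agent.OrdDiv Cfsg.Agent.H436 Cfsg.Agent.H915.GN

/-- the classical groups treated by the general rows -/
def BigCl : Grp → Prop
  | .psl n _ => 4 ≤ n
  | .psu n _ => 4 ≤ n
  | .psp m _ => 3 ≤ m
  | .oodd m _ => 3 ≤ m
  | .oplus m _ => 4 ≤ m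
  | .ominus m _ => 4 ≤ m
  | _ => False

end Cfsg.Agent.H192.Dp
end
end
end
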