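import Mathlib
import Cfsg.Agent.H264.FKS.Char
import Cfsg.Agent.H264.FKS.ResCore
import Cfsg.Agent.H813.SaxSpK
import Cfsg.Agent.S5791
import Cfsg.Agent.S1163
import Cfsg.Agent.S2126
import Cfsg.Agent.Prune
set_option linter.all false
prune_inst 0x7f00000000000000000000000000000000000000000000000000000000000000000000000000000000000000000000000000000000000000000000000000000000000000000000000000000000000000003fffffffffffffffffffffffffffbeffbdffffffff
open scoped Cfsg.Agent.FastGrp

/-!
# Proper subgroups of `PSp_4(q)`, `q ≥ 4` even (helper264, TEAM ELUSIVE)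
-/

set_option autoImplicit false

namespace Cfsg.Agent.H264.FKS

open Cfsg Cfsg.Geo Cfsg.Agent.OrdDiv Cfsg.Agent.H436 Cfsg.Agent.H915.GN Cfsg.Agent.H264.GN Cfsg.Agent.H262.El
  Cfsg.Agent.H931 Cfsg.Agent.H876

section Max

variable {F : Type} [Field F] {m : ℕ}

/-- the preimage of a maximal subgroup is maximal -/
theorem isMaximalIn_pre {R : Subgroup (PSp m F)} (hR : IsCoatom R) : IsMaximalIn (spGL m F) (pre R) := by
  refine ⟨lt_of_le_of_ne (pre_le R) (pre_ne hR.1), fun M h1 h2 => ?_⟩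
  let R' : Subgroup (PSp m F) :=
    (M.comap (spToGL m F)).map (QuotientGroup.mk' (Subgroup.center (Matrix.symplecticGroup (Fin m) F)))
  have hM : M = pre R' := by
    apply le_antisymm
    · intro x hx
      obtain ⟨A, rfl⟩ := exists_spToGL (h2 hx)
      rw [mem_pre]
      exact ⟨A, hx, rfl⟩
    · intro x hx
      obtain ⟨A, rfl⟩ := exists_spToGL (pre_le R' hx)
      rw [mem_pre] at hx
      obtain ⟨B, hB, hBA⟩ := hx
      have h3 : B⁻¹ * A ∈ Subgroup.center (Matrix.symplecticGroup (Fin m) F) := QuotientGroup.eq.1 hBA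
      have h4 : spToGL m F (B⁻¹ * A) ∈ pre R := by
        rw [mem_pre, (QuotientGroup.eq_one_iff _).2 h3]
        exact R.one_mem
      have h5 := M.mul_mem hB (h1 h4)
      rwa [← map_mul, mul_inv_cancel_left] at h5
  have h3 : R ≤ R' := by
    intro x hx
    obtain ⟨A, rfl⟩ := QuotientGroup.mk_surjective x
    exact ⟨A, h1 (mem_pre.2 hx), rfl⟩
  rcases eq_or_lt_of_le h3 with h | h
  · left
    rw [hM, ← h]
  · right
    have h4 := hR.2 _ h
    rw [hM, h4]
    apply le_antisymm (pre_le _)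
    intro x hx
    obtain ⟨A, rfl⟩ := exists_spToGL hx
    rw [mem_pre]
    trivial

theorem hker_sp (x : Matrix.symplecticGroup (Fin m) F) :
    QuotientGroup.mk' (Subgroup.center (Matrix.symplecticGroup (Fin m) F)) x = 1 ↔
      spToGL m F x ∈ scalars (Fin m ⊕ Fin m) F := by
  rw [show QuotientGroup.mk' (Subgroup.center (Matrix.symplecticGroup (Fin m) F)) x = 1 ↔
    x ∈ Subgroup.center (Matrix.symplecticGroup (Fin m) F) from QuotientGroup.eq_one_iff x]
  constructor
  · intro h
    obtain ⟨a, ha⟩ := (LieClassical.SympCenter.mem_center_iff m x).1 h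
    rcases isEmpty_or_nonempty (Fin m ⊕ Fin m) with hι | ⟨⟨i⟩⟩
    · have : spToGL m F x = 1 := Units.ext (by ext i; exact (hι.false i).elim)
      rw [this]
      exact Subgroup.one_mem _
    · have ha0 : a ≠ 0 := by
        rintro rfl
        rw [zero_smul] at ha
        have h3 : (0 : Matrix (Fin m ⊕ Fin m) (Fin m ⊕ Fin m) F) = 1 := by
          have h1 : x.1 * (x⁻¹).1 = 1 := congrArg Subtype.val (mul_inv_cancel x)
          rw [ha, zero_mul] at h1
          exact h1
        have h4 := congrFun (congrFun h3 i) i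
        rw [Matrix.zero_apply, Matrix.one_apply_eq] at h4
        exact zero_ne_one h4
      refine ⟨Units.mk0 a ha0, Units.ext ?_⟩
      ext i j
      have h5 := congrFun (congrFun ha i) j
      change (Matrix.scalar (Fin m ⊕ Fin m) a) i j = x.1 i j
      rw [h5, Matrix.scalar_apply, Matrix.smul_apply, Matrix.diagonal_apply, Matrix.one_apply]
      split_ifs <;> simp
  · rintro ⟨u, hu⟩
    refine (LieClassical.SympCenter.mem_center_iff m x).2 ⟨(u : F), ?_⟩
    have h1 := congrArg Units.val hu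
    ext i j
    have h5 := congrFun (congrFun h1 i) j
    change (Matrix.scalar (Fin m ⊕ Fin m) (u : F)) i j = x.1 i j at h5
    rw [← h5, Matrix.scalar_apply, Matrix.smul_apply, Matrix.diagonal_apply, Matrix.one_apply]
    split_ifs <;> simp

end Max

theorem prim_eight_two : Prim 8 2 3 := by
  refine ⟨by norm_num, fun j => ?_, by norm_num⟩
  have h1 : orderOf ((8 : ℕ) : ZMod 3) = 2 := by
    apply orderOf_eq_prime
    · decide
    · decide
  rw [show 2 ∣ j ↔ ((8 : ℕ) : ZMod 3) ^ j = 1 by rw [← orderOf_dvd_iff_pow_eq_one, h1], ← ZMod.natCast_eq_zero_iff,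
    Nat.cast_sub (Nat.one_le_pow _ _ (by norm_num)), sub_eq_zero]
  push_cast
  rfl

/-- **`PSp_4(q)`, `q ≥ 4` even.** -/
theorem derT_psp_four {F : Type} [Field F] [Fintype F] (heven : ¬ Odd (Fintype.card F)) (h4 : 4 ≤ Fintype.card F)
    (R : Subgroup (PSp 2 F)) (hR : R ≠ ⊤) : H278.El.DerT (PSp 2 F) R := by
  obtain ⟨M, hM, hRM⟩ := (eq_top_or_exists_le_coatom R).resolve_left hR
  refine H278.El.DerT.mono ?_ hRM
  rcases derT_or_residual le_rfl (by rintro ⟨-, h⟩; omega) hM.1 with h | h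
  · exact h
  obtain ⟨P, m, hP, hm, hF, ⟨e⟩⟩ := S5791.result heven h4 (pre M) (isMaximalIn_pre hM) h
  obtain ⟨S, h1, h2, h3, h4', ⟨e'⟩⟩ := exists_socle (spToGL 2 F) spToGL_injective
    (QuotientGroup.mk' (Subgroup.center (Matrix.symplecticGroup (Fin 2) F))) (QuotientGroup.mk'_surjective _)
    hker_sp (M := M) hP
  have hp2 : Nat.Prime 2 := Nat.prime_two
  have hcS : Nat.card S = (2 ^ (2 * m + 1)) ^ 2 * (2 ^ (2 * m + 1) - 1) * ((2 ^ (2 * m + 1)) ^ 2 + 1) := by
    rw [Nat.card_congr (e'.trans e).toEquiv, (S1163.result hm hF).1]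
  have hO : Nat.card (Cfsg.Out S) = 2 * m + 1 := by
    rw [H934.OutB.card_out_congr (e'.trans e)]
    exact S2126.result hm hF
  have hMd : Nat.card M ∣ (2 * m + 1) *
      ((2 ^ (2 * m + 1)) ^ 2 * (2 ^ (2 * m + 1) - 1) * ((2 ^ (2 * m + 1)) ^ 2 + 1)) := by
    have h5 := dvd_aut S h4'
    rwa [← H934.OutB.card_out_mul S h3, hO, hcS] at h5
  set q := 2 ^ (2 * m + 1) with hq
  have hq8 : 2 ^ 3 ≤ q := Nat.pow_le_pow_right (by norm_num) (by omega)
  have hT := named_psp F (n := 2) le_rfl (fun _ => by omega)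
  rw [hF] at hT
  -- primes of `q + 1`
  have hnS : ∀ r : ℕ, Prim q 2 r → ¬ r ∣ q ^ 2 * (q - 1) * (q ^ 2 + 1) := by
    intro r hr h5
    have h9 := lt_of_prim hr
    rcases hr.prime.dvd_mul.1 h5 with h6 | h6
    · rcases hr.prime.dvd_mul.1 h6 with h7 | h7
      · exact hr.not_dvd (hr.prime.dvd_of_dvd_pow h7)
      · have h8 := (hr.dvd_iff 1).1 (by rwa [pow_one])
        omega
    · have h8 := Nat.dvd_sub h6 ((hr.dvd_iff 2).2 dvd_rfl)
      have : q ≤ q ^ 2 := Nat.le_self_pow (by norm_num) _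
      rw [show q ^ 2 + 1 - (q ^ 2 - 1) = 2 by omega] at h8
      have := Nat.le_of_dvd (by norm_num) h8
      omega
  have hrT : ∀ r : ℕ, Prim q 2 r → r ∣ Nat.card (PSp 2 F) := by
    intro r hr
    have h9 := lt_of_prim hr
    refine IsNamed.dvd hT hr.prime ((dvd_prB hr (k := 1) (by norm_num) le_rfl (by norm_num)).mul_left _) fun h6 => ?_
    have h7 : r ∣ Nat.gcd 2 (q - 1) := h6
    have := Nat.le_of_dvd (by norm_num) (h7.trans (Nat.gcd_dvd_left _ _))
    omega
  by_cases hm1 : m = 1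
  · subst hm1
    have h38 : Prim q 2 3 := prim_eight_two
    have hcyc : Cyc 3 M := by
      refine cyc_of_card (by norm_num) fun h9 => ?_
      have h10 := h9.trans hMd
      rw [hq] at h10
      revert h10
      decide
    refine derT_psp (F := F) (n := 2) ?_ le_rfl rfl M hcyc
    rw [Nat.card_eq_fintype_card, hF]
    exact h38
  · obtain ⟨r, hr⟩ := exists_prim (q := 2) (e := (2 * m + 1) * 2) le_rfl (by omega) (by omega)
    have hr2 : Prim q 2 r := prim_pow (by omega) hr
    have hlt := lt_of_prim hr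
    refine Miss.derT ⟨r, hr.prime, hrT r hr2, fun h5 => ?_⟩
    rcases hr.prime.dvd_mul.1 (h5.trans hMd) with h6 | h6
    · have := Nat.le_of_dvd (by omega) h6
      omega
    · exact hnS r hr2 h6

end Cfsg.Agent.H264.FKS
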